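import Cfsg.Agent.H972.ROSpor
import Cfsg.Agent.H849.FiModel
import Cfsg.Agent.H713.Spor.MOf
import Cfsg.Agent.MonsterU.Uncond
import Cfsg.Agent.MonsterP.Equiv

/-!
# `RealOdd` for the Monster (helper972)

A real element of order 29 of `Fi24'` lifts to the centralizer `3.Fi24'` of an element of order 3; 29 is prime to the
orders of the centralizers of the involutions.
-/

set_option autoImplicit false

namespace Cfsg.Agent.H972.ROM

open Cfsg Subgroup Cfsg.Agent.H101.RO

/-- Lifting a real element of order `p` along a surjection with central kernel of exponent `m` prime to `p`. -/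
theorem lift_real {C S : Type*} [Group C] [Group S] (π : C →* S) (hs : Function.Surjective π) {p m k : ℕ}
    (hp : p.Prime) (hm : ∀ z : C, π z = 1 → z ^ m = 1) (hcen : ∀ z : C, π z = 1 → ∀ g : C, g * z = z * g)
    (hk : m * k % p = 1) {x y : S} (hx : orderOf x = p) (hy : y * x * y⁻¹ = x⁻¹) :
    ∃ x' y' : C, orderOf x' = p ∧ y' * x' * y'⁻¹ = x'⁻¹ := by
  obtain ⟨g, hg⟩ := hs x
  obtain ⟨h, hh⟩ := hs y
  have hxp : x ^ p = 1 := by rw [← hx]; exact pow_orderOf_eq_one x
  have hx1 : x ≠ 1 := by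
    rintro rfl
    rw [orderOf_one] at hx
    exact hp.one_lt.ne hx
  have hmk : x ^ (m * k) = x := by
    have : m * k = p * (m * k / p) + 1 := by
      have := Nat.div_add_mod (m * k) p
      omega
    rw [this, pow_succ, pow_mul, hxp, one_pow, one_mul]
  have h1 : π (g ^ (m * k)) = x := by rw [map_pow, hg, hmk]
  have h2 : (g ^ (m * k)) ^ p = 1 := by
    have h3 : π (g ^ p) = 1 := by rw [map_pow, hg, hxp]
    have h4 := hm _ h3
    rw [← pow_mul, show m * k * p = p * m * k by ring, pow_mul, pow_mul, h4, one_pow]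
  have hne : g ^ (m * k) ≠ 1 := fun e => hx1 (by rw [← h1, e, map_one])
  have : Fact p.Prime := ⟨hp⟩
  have hord : orderOf (g ^ (m * k)) = p := orderOf_eq_prime h2 hne
  set X := g ^ (m * k) with hX
  have hz : π (h * X * h⁻¹ * X) = 1 := by
    rw [map_mul, map_mul, map_mul, map_inv, h1, hh, hy, inv_mul_cancel]
  set z := h * X * h⁻¹ * X with hzd
  have hz1 : z ^ m = 1 := hm z hz
  have hz2 : z ^ p = 1 := by
    have h5 : h * X * h⁻¹ = z * X⁻¹ := by rw [hzd]; group
    have h6 : (h * X * h⁻¹) ^ p = 1 := by rw [conj_pow, h2]; group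
    rw [h5] at h6
    have hc : Commute z X⁻¹ := (hcen z hz X⁻¹).symm
    rw [hc.mul_pow, inv_pow, h2, inv_one, mul_one] at h6
    exact h6
  have hcop : Nat.Coprime m p := by
    rw [Nat.coprime_comm, hp.coprime_iff_not_dvd]
    intro hd
    obtain ⟨c, rfl⟩ := hd
    rw [mul_assoc, Nat.mul_mod_right] at hk
    exact absurd hk (by norm_num)
  have hz3 : z = 1 := by
    have h7 : orderOf z ∣ Nat.gcd m p := Nat.dvd_gcd (orderOf_dvd_of_pow_eq_one hz1) (orderOf_dvd_of_pow_eq_one hz2)
    rw [hcop.gcd_eq_one, Nat.dvd_one, orderOf_eq_one_iff] at h7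
    exact h7
  refine ⟨X, h, hord, ?_⟩
  have h8 : h * X * h⁻¹ * X = 1 := hz3
  exact eq_inv_of_mul_eq_one_left h8

open Cfsg.Agent.MonsterX

theorem ro_M_model : RealOdd ↥InstData.M.G := by
  obtain ⟨w, t, π, D⟩ := H849.FiModel.exists_data
  obtain ⟨x, y, hx, -, hy, -⟩ := ROSpor.at_Fi24p_model
  have hcen : ∀ z : centralizer ({w} : Set ↥InstData.M.G), π z = 1 →
      ∀ g : centralizer ({w} : Set ↥InstData.M.G), g * z = z * g := by
    intro z hz g
    obtain ⟨n, hn⟩ := mem_zpowers_iff.1 ((D.ker z).1 hz)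
    apply Subtype.ext
    show (g : ↥InstData.M.G) * z = z * g
    rw [← hn]
    exact (show Commute (g : ↥InstData.M.G) w from mem_centralizer_singleton_iff.1 g.2).zpow_right n
  have hm : ∀ z : centralizer ({w} : Set ↥InstData.M.G), π z = 1 → z ^ 3 = 1 := by
    intro z hz
    obtain ⟨n, hn⟩ := mem_zpowers_iff.1 ((D.ker z).1 hz)
    apply Subtype.ext
    show (z : ↥InstData.M.G) ^ 3 = 1
    rw [← hn, ← zpow_natCast, ← zpow_mul, mul_comm, zpow_mul, zpow_natCast, ← D.ord, pow_orderOf_eq_one, one_zpow]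
  obtain ⟨X, Y, hX, hY⟩ := lift_real (m := 3) (k := 10) π D.surj (by norm_num) hm hcen (by norm_num) hx hy
  have A := Cfsg.Agent.MonsterU.Uncond.all
  have hfin : Finite ↥InstData.M.G := Cfsg.Agent.MonsterX.MainBasic.G_finite A.hO
  refine RealOdd.of_not_dvd (x := (X : ↥InstData.M.G)) (y := (Y : ↥InstData.M.G)) (p := 29) (k := 1) (by norm_num)
    (by norm_num) le_rfl (by rw [pow_one, Subgroup.orderOf_coe, hX]) ?_ ?_
  · exact congrArg Subtype.val hY
  · intro u hu h
    have h1 := H713.Spor.MOf.card_cent A u hu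
    simp only [List.mem_cons, List.not_mem_nil, or_false] at h1
    rcases h1 with h1 | h1
    · rw [h1] at h
      exact absurd h (by norm_num)
    · rw [h1] at h
      exact absurd h (by norm_num)

/-- **The Monster.** -/
theorem ro_M {K : Type*} [Group K] (h : Spor.IsoM K) : RealOdd K := by
  obtain ⟨e⟩ := h
  obtain ⟨f⟩ := Cfsg.Agent.MonsterP.Equiv.equiv
  exact RealOdd.congr (e.trans f).symm ro_M_model

end Cfsg.Agent.H972.ROM
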