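import Mathlib

/-!
# Orbits of `GL_n(q)` on symmetric matrices, `q` odd

Every orbit of `GL_n(q)` on the non-zero symmetric `n × n` matrices (under `S ↦ lᵀ S l`) has at least
`(q^n - 1)/2` elements.
-/

set_option autoImplicit false
set_option linter.style.haveILetI false

open Matrix

namespace Cfsg.Agent.H972.SymOrbit

variable {F : Type*} [Field F] {n : ℕ}

/-- Some invertible matrix moves a given non-zero vector to another one. -/
theorem exists_GL_mulVec_eq {v w : Fin n → F} (hv : v ≠ 0) (hw : w ≠ 0) :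
    ∃ g : GL (Fin n) F, (g : Matrix (Fin n) (Fin n) F) *ᵥ v = w := by
  let f := (LinearEquiv.toSpanNonzeroSingleton F (Fin n → F) v hv).symm.trans
    (LinearEquiv.toSpanNonzeroSingleton F (Fin n → F) w hw)
  obtain ⟨g, hg⟩ := Submodule.exists_linearEquiv_restrict_eq f
  have hgv : g v = w := by
    have h := hg ⟨v, Submodule.mem_span_singleton_self v⟩
    have h1 : (LinearEquiv.toSpanNonzeroSingleton F (Fin n → F) v hv).symm
        ⟨v, Submodule.mem_span_singleton_self v⟩ = 1 := by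
      rw [LinearEquiv.symm_apply_eq]
      ext
      simp
    simp only [f, LinearEquiv.trans_apply, h1] at h
    rw [← h]
    simp
  obtain ⟨A, hA⟩ : ∃ A : GL (Fin n) F,
      Matrix.GeneralLinearGroup.toLin A = LinearMap.GeneralLinearGroup.ofLinearEquiv g :=
    ⟨Matrix.GeneralLinearGroup.toLin.symm (LinearMap.GeneralLinearGroup.ofLinearEquiv g),
      MulEquiv.apply_symm_apply _ _⟩
  refine ⟨A, ?_⟩
  calc (A : Matrix (Fin n) (Fin n) F) *ᵥ v
      = ((Matrix.GeneralLinearGroup.toLin A : LinearMap.GeneralLinearGroup F (Fin n → F)) :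
          (Fin n → F) →ₗ[F] (Fin n → F)) v := rfl
    _ = g v := by rw [hA]; rfl
    _ = w := hgv

/-- The orbit of `S`. -/
noncomputable def orb (S : Matrix (Fin n) (Fin n) F) : Set (Matrix (Fin n) (Fin n) F) :=
  Set.range fun l : GL (Fin n) F => (l : Matrix (Fin n) (Fin n) F)ᵀ * S * (l : Matrix (Fin n) (Fin n) F)

theorem orb_symm {S T : Matrix (Fin n) (Fin n) F} (hS : Sᵀ = S) (hT : T ∈ orb S) : Tᵀ = T := by
  obtain ⟨l, rfl⟩ := hT
  simp [Matrix.mul_assoc, hS]

theorem orb_trans {S T : Matrix (Fin n) (Fin n) F} (hT : T ∈ orb S) (l : GL (Fin n) F) :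
    (l : Matrix (Fin n) (Fin n) F)ᵀ * T * (l : Matrix (Fin n) (Fin n) F) ∈ orb S := by
  obtain ⟨m, rfl⟩ := hT
  exact ⟨m * l, by simp [Matrix.mul_assoc]⟩

/-- A non-zero symmetric matrix in odd characteristic represents a non-zero value. -/
theorem exists_value_ne_zero (h2 : (2 : F) ≠ 0) {S : Matrix (Fin n) (Fin n) F} (hS : Sᵀ = S)
    (h0 : S ≠ 0) : ∃ y : Fin n → F, y ⬝ᵥ (S *ᵥ y) ≠ 0 := by
  by_contra hcon
  push Not at hcon
  apply h0
  have hb : ∀ x y : Fin n → F, x ⬝ᵥ (S *ᵥ y) = 0 := by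
    intro x y
    have h := hcon (x + y)
    rw [Matrix.mulVec_add, dotProduct_add, add_dotProduct, add_dotProduct, hcon x, hcon y] at h
    have hs : y ⬝ᵥ (S *ᵥ x) = x ⬝ᵥ (S *ᵥ y) := by
      conv_lhs => rw [← hS, Matrix.mulVec_transpose, dotProduct_comm, ← Matrix.dotProduct_mulVec]
    rw [hs, zero_add, add_zero, ← two_mul] at h
    exact (mul_eq_zero.mp h).resolve_left h2
  ext i j
  have h := hb (Pi.single i 1) (Pi.single j 1)
  simpa using h

variable [Fintype F]

/-- The number of vectors of a given non-zero value is at most `2 q^(n-1)`. -/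
theorem card_value_le (T : Matrix (Fin n) (Fin n) F) (hT : Tᵀ = T) {c : F} (hc : c ≠ 0) :
    Nat.card {y : Fin n → F // y ⬝ᵥ (T *ᵥ y) = c} ≤ 2 * Fintype.card F ^ (n - 1) := by
  classical
  by_cases hex : ∃ y1 : Fin n → F, y1 ⬝ᵥ (T *ᵥ y1) = c
  swap
  · push Not at hex
    haveI : IsEmpty {y : Fin n → F // y ⬝ᵥ (T *ᵥ y) = c} := ⟨fun y => hex y.1 y.2⟩
    simp
  obtain ⟨y1, hy1⟩ := hex
  have hy0 : y1 ≠ 0 := by
    rintro rfl
    apply hc
    rw [← hy1]
    simp
  obtain ⟨i, hi⟩ : ∃ i, y1 i ≠ 0 := by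
    by_contra h
    push Not at h
    exact hy0 (funext h)
  set s : Finset (Fin n → F) := Finset.univ.filter fun y => y ⬝ᵥ (T *ᵥ y) = c with hs
  have hsc : Nat.card {y : Fin n → F // y ⬝ᵥ (T *ᵥ y) = c} = s.card := by
    rw [Nat.card_eq_fintype_card, Fintype.card_subtype]
  rw [hsc]
  set f : (Fin n → F) → (Fin n → F) := fun y => y - (y i / y1 i) • y1 with hf
  have himg : (s.image f).card ≤ Fintype.card F ^ (n - 1) := by
    have hsub : s.image f ⊆ Finset.univ.filter fun z : Fin n → F => z i = 0 := by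
      intro z hz
      obtain ⟨y, -, rfl⟩ := Finset.mem_image.mp hz
      simp [hf, hi]
    refine (Finset.card_le_card hsub).trans ?_
    have hn : 0 < n := i.pos
    obtain ⟨k, rfl⟩ : ∃ k, n = k + 1 := ⟨n - 1, by omega⟩
    have : (Finset.univ.filter fun z : Fin (k + 1) → F => z i = 0).card ≤
        (Finset.univ : Finset (Fin k → F)).card := by
      refine Finset.card_le_card_of_injOn (fun z j => z (i.succAbove j)) (fun _ _ => Finset.mem_univ _) ?_
      intro z hz w hw hzw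
      simp only [Finset.coe_filter, Finset.mem_univ, true_and, Set.mem_ofPred_eq] at hz hw
      funext j
      rcases Fin.eq_self_or_eq_succAbove i j with rfl | ⟨j', rfl⟩
      · rw [hz, hw]
      · exact congrFun hzw j'
    simpa using this
  refine (Finset.card_le_mul_card_image s 2 ?_).trans (Nat.mul_le_mul_left 2 himg)
  intro z _
  by_contra hcon
  push Not at hcon
  obtain ⟨a, ha, b, hb, d, hd, hab, had, hbd⟩ := Finset.two_lt_card.mp hcon
  simp only [hs, Finset.mem_filter, Finset.mem_univ, true_and] at ha hb hd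
  have hform : ∀ y : Fin n → F, f y = z → y = z + (y i / y1 i) • y1 := by
    intro y hy
    rw [← hy, hf]
    simp
  have hsy : ∀ x y : Fin n → F, y ⬝ᵥ (T *ᵥ x) = x ⬝ᵥ (T *ᵥ y) := by
    intro x y
    conv_lhs => rw [← hT, Matrix.mulVec_transpose, dotProduct_comm, ← Matrix.dotProduct_mulVec]
  have hq : ∀ t : F, (z + t • y1) ⬝ᵥ (T *ᵥ (z + t • y1)) =
      z ⬝ᵥ (T *ᵥ z) + 2 * t * (z ⬝ᵥ (T *ᵥ y1)) + t ^ 2 * c := by
    intro t
    rw [Matrix.mulVec_add, Matrix.mulVec_smul, add_dotProduct, dotProduct_add, dotProduct_add,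
      smul_dotProduct, smul_dotProduct, dotProduct_smul, dotProduct_smul, hsy z y1, hy1]
    simp only [smul_eq_mul]
    ring
  have key : ∀ t t' : F, t ≠ t' → z ⬝ᵥ (T *ᵥ z) + 2 * t * (z ⬝ᵥ (T *ᵥ y1)) + t ^ 2 * c = c →
      z ⬝ᵥ (T *ᵥ z) + 2 * t' * (z ⬝ᵥ (T *ᵥ y1)) + t' ^ 2 * c = c →
      c * (t + t') + 2 * (z ⬝ᵥ (T *ᵥ y1)) = 0 := by
    intro t t' htt h1 h2
    have h3 : (t - t') * (c * (t + t') + 2 * (z ⬝ᵥ (T *ᵥ y1))) = 0 := by linear_combination h1 - h2
    exact (mul_eq_zero.mp h3).resolve_left (sub_ne_zero.mpr htt)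
  obtain ⟨ta, hta⟩ : ∃ t, t = a i / y1 i := ⟨_, rfl⟩
  obtain ⟨tb, htb⟩ : ∃ t, t = b i / y1 i := ⟨_, rfl⟩
  obtain ⟨td, htd⟩ : ∃ t, t = d i / y1 i := ⟨_, rfl⟩
  have ha' := hform a ha.2
  have hb' := hform b hb.2
  have hd' := hform d hd.2
  rw [← hta] at ha'
  rw [← htb] at hb'
  rw [← htd] at hd'
  have hab' : ta ≠ tb := by
    rintro h
    apply hab
    rw [ha', hb', h]
  have had' : ta ≠ td := by
    rintro h
    apply had
    rw [ha', hd', h]
  have hbd' : tb ≠ td := by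
    rintro h
    apply hbd
    rw [hb', hd', h]
  have ea : z ⬝ᵥ (T *ᵥ z) + 2 * ta * (z ⬝ᵥ (T *ᵥ y1)) + ta ^ 2 * c = c := by
    rw [← hq ta, ← ha']
    exact ha.1
  have eb : z ⬝ᵥ (T *ᵥ z) + 2 * tb * (z ⬝ᵥ (T *ᵥ y1)) + tb ^ 2 * c = c := by
    rw [← hq tb, ← hb']
    exact hb.1
  have ed : z ⬝ᵥ (T *ᵥ z) + 2 * td * (z ⬝ᵥ (T *ᵥ y1)) + td ^ 2 * c = c := by
    rw [← hq td, ← hd']
    exact hd.1
  have k1 := key ta tb hab' ea eb
  have k2 := key ta td had' ea ed
  have h3 : c * (tb - td) = 0 := by linear_combination k1 - k2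
  rcases mul_eq_zero.mp h3 with h | h
  · exact hc h
  · exact hbd' (sub_eq_zero.mp h)

/-- The number of members of the orbit with a given non-zero value at a given vector is at least
`q^(n-1)` (if there is one). -/
theorem le_card_orb_value {S : Matrix (Fin n) (Fin n) F} (T : Matrix (Fin n) (Fin n) F) (hT : T ∈ orb S)
    {y : Fin n → F} {c : F} (hc : c ≠ 0) (hy : y ⬝ᵥ (T *ᵥ y) = c) :
    Fintype.card F ^ (n - 1) ≤ Nat.card {T' : Matrix (Fin n) (Fin n) F // T' ∈ orb S ∧ y ⬝ᵥ (T' *ᵥ y) = c} := by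
  classical
  have hy0 : y ≠ 0 := by
    rintro rfl
    apply hc
    rw [← hy]
    simp
  -- transvections fixing `y`
  have hmul : ∀ u : Fin n → F, u ⬝ᵥ y = 0 →
      (1 + vecMulVec y u) * (1 + vecMulVec y (-u)) = (1 : Matrix (Fin n) (Fin n) F) := by
    intro u hu
    rw [Matrix.add_mul, Matrix.mul_add, Matrix.mul_add, Matrix.vecMulVec_mul_vecMulVec, hu, zero_smul,
      Matrix.vecMulVec_neg]
    simp
  let g : (u : {u : Fin n → F // u ⬝ᵥ y = 0}) → GL (Fin n) F := fun u =>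
    ⟨1 + vecMulVec y u.1, 1 + vecMulVec y (-u.1), hmul u.1 u.2, by
      have h := hmul (-u.1) (by rw [neg_dotProduct, u.2, neg_zero])
      rwa [neg_neg] at h⟩
  have hg : ∀ u, ((g u : GL (Fin n) F) : Matrix (Fin n) (Fin n) F) = 1 + vecMulVec y u.1 := fun u => rfl
  have hgy : ∀ u, ((g u : GL (Fin n) F) : Matrix (Fin n) (Fin n) F) *ᵥ y = y := by
    intro u
    rw [hg, Matrix.add_mulVec, Matrix.one_mulVec, Matrix.vecMulVec_mulVec, u.2]
    simp
  have hval : ∀ u, y ⬝ᵥ ((((g u : GL (Fin n) F) : Matrix (Fin n) (Fin n) F)ᵀ * T *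
      ((g u : GL (Fin n) F) : Matrix (Fin n) (Fin n) F)) *ᵥ y) = c := by
    intro u
    rw [← Matrix.mulVec_mulVec, hgy, ← Matrix.mulVec_mulVec, Matrix.dotProduct_mulVec, Matrix.vecMul_transpose,
      hgy, hy]
  have hcol : ∀ u, (((g u : GL (Fin n) F) : Matrix (Fin n) (Fin n) F)ᵀ * T *
      ((g u : GL (Fin n) F) : Matrix (Fin n) (Fin n) F)) *ᵥ y = T *ᵥ y + c • u.1 := by
    intro u
    rw [← Matrix.mulVec_mulVec, hgy, ← Matrix.mulVec_mulVec, hg, Matrix.transpose_add, Matrix.transpose_one,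
      Matrix.add_mulVec, Matrix.one_mulVec, Matrix.transpose_vecMulVec, Matrix.vecMulVec_mulVec, hy]
    simp
  have hinj : Function.Injective (fun u : {u : Fin n → F // u ⬝ᵥ y = 0} =>
      (⟨((g u : GL (Fin n) F) : Matrix (Fin n) (Fin n) F)ᵀ * T * ((g u : GL (Fin n) F) : Matrix (Fin n) (Fin n) F),
        orb_trans hT (g u), hval u⟩ : {T' : Matrix (Fin n) (Fin n) F // T' ∈ orb S ∧ y ⬝ᵥ (T' *ᵥ y) = c})) := by
    intro u v huv
    have h := congrArg (fun x : {T' : Matrix (Fin n) (Fin n) F // T' ∈ orb S ∧ y ⬝ᵥ (T' *ᵥ y) = c} =>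
      x.1 *ᵥ y) huv
    simp only [hcol] at h
    have h2 : c • u.1 = c • v.1 := add_left_cancel h
    exact Subtype.ext (smul_right_injective _ hc h2)
  refine le_trans ?_ (Nat.card_le_card_of_injective _ hinj)
  -- the number of `u` with `u ⬝ y = 0`
  obtain ⟨i, hi⟩ : ∃ i, y i ≠ 0 := by
    by_contra h
    push Not at h
    exact hy0 (funext h)
  have hn : 0 < n := i.pos
  obtain ⟨k, rfl⟩ : ∃ k, n = k + 1 := ⟨n - 1, by omega⟩
  have hsurj : Function.Injective (fun w : Fin k → F =>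
      (⟨i.insertNth (-(∑ j, w j * y (i.succAbove j)) / y i) w, by
        rw [dotProduct, Fin.sum_univ_succAbove _ i]
        simp only [Fin.insertNth_apply_same, Fin.insertNth_apply_succAbove]
        field_simp
        ring⟩ : {u : Fin (k + 1) → F // u ⬝ᵥ y = 0})) := by
    intro w w' h
    have h1 := congrArg Subtype.val h
    funext j
    have := congrFun h1 (i.succAbove j)
    simpa using this
  have := Nat.card_le_card_of_injective _ hsurj
  simpa [Nat.card_eq_fintype_card] using this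

/-- **Orbits of `GL_n(q)` on the non-zero symmetric matrices have at least `(q^n - 1)/2` elements.** -/
theorem le_two_mul_card_orb (h2 : (2 : F) ≠ 0) {S : Matrix (Fin n) (Fin n) F} (hS : Sᵀ = S) (h0 : S ≠ 0) :
    Fintype.card F ^ n - 1 ≤ 2 * Nat.card (orb S) := by
  classical
  obtain ⟨y0, hy0⟩ := exists_value_ne_zero h2 hS h0
  obtain ⟨c, hc⟩ : ∃ c, c = y0 ⬝ᵥ (S *ᵥ y0) := ⟨_, rfl⟩
  have hc0 : c ≠ 0 := by rw [hc]; exact hy0
  have hn : 0 < n := by
    rcases Nat.eq_zero_or_pos n with rfl | h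
    · exfalso
      apply h0
      ext i
      exact i.elim0
    · exact h
  set O : Finset (Matrix (Fin n) (Fin n) F) := Finset.univ.filter fun T => T ∈ orb S with hO
  have hOc : Nat.card (orb S) = O.card := by
    rw [hO]
    change Nat.card {T // T ∈ orb S} = _
    rw [Nat.card_eq_fintype_card, Fintype.card_subtype]
  set Y : Finset (Fin n → F) := Finset.univ.filter fun y => y ≠ 0 with hY
  have hYc : Y.card = Fintype.card F ^ n - 1 := by
    rw [hY, Finset.filter_ne', Finset.card_erase_of_mem (Finset.mem_univ _)]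
    simp
  have hdc := Finset.sum_card_bipartiteAbove_eq_sum_card_bipartiteBelow
    (fun (y : Fin n → F) (T : Matrix (Fin n) (Fin n) F) => y ⬝ᵥ (T *ᵥ y) = c) (s := Y) (t := O)
  have hlow : Y.card * Fintype.card F ^ (n - 1) ≤
      ∑ y ∈ Y, (O.bipartiteAbove (fun (y : Fin n → F) (T : Matrix (Fin n) (Fin n) F) => y ⬝ᵥ (T *ᵥ y) = c) y).card := by
    rw [← smul_eq_mul, ← Finset.sum_const]
    refine Finset.sum_le_sum fun y hy => ?_
    have hyne : y ≠ 0 := (Finset.mem_filter.mp hy).2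
    have hy0ne : y0 ≠ 0 := by
      rintro rfl
      apply hy0
      simp
    obtain ⟨l, hl⟩ := exists_GL_mulVec_eq hyne hy0ne
    have hT : (l : Matrix (Fin n) (Fin n) F)ᵀ * S * (l : Matrix (Fin n) (Fin n) F) ∈ orb S := ⟨l, rfl⟩
    have hv : y ⬝ᵥ (((l : Matrix (Fin n) (Fin n) F)ᵀ * S * (l : Matrix (Fin n) (Fin n) F)) *ᵥ y) = c := by
      rw [← Matrix.mulVec_mulVec, hl, ← Matrix.mulVec_mulVec, Matrix.dotProduct_mulVec, Matrix.vecMul_transpose,
        hl, ← hc]
    have := le_card_orb_value _ hT hc0 hv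
    rw [Nat.card_eq_fintype_card, Fintype.card_subtype] at this
    refine this.trans (Finset.card_le_card ?_)
    intro T' hT'
    simp only [Finset.mem_filter, Finset.mem_univ, true_and] at hT'
    simp only [Finset.bipartiteAbove, Finset.mem_filter, hO, Finset.mem_univ, true_and]
    exact hT'
  have hup : ∑ T ∈ O, (Y.bipartiteBelow (fun (y : Fin n → F) (T : Matrix (Fin n) (Fin n) F) => y ⬝ᵥ (T *ᵥ y) = c) T).card ≤
      O.card * (2 * Fintype.card F ^ (n - 1)) := by
    rw [← smul_eq_mul, ← Finset.sum_const]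
    refine Finset.sum_le_sum fun T hT => ?_
    have hTo : T ∈ orb S := (Finset.mem_filter.mp hT).2
    have := card_value_le T (orb_symm hS hTo) hc0
    rw [Nat.card_eq_fintype_card, Fintype.card_subtype] at this
    refine le_trans (Finset.card_le_card ?_) this
    intro y hy
    simp only [Finset.bipartiteBelow, Finset.mem_filter] at hy
    simp only [Finset.mem_filter, Finset.mem_univ, true_and]
    exact hy.2
  have hmain : Y.card * Fintype.card F ^ (n - 1) ≤ (2 * O.card) * Fintype.card F ^ (n - 1) := by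
    calc _ ≤ _ := hlow
      _ = _ := hdc
      _ ≤ _ := hup
      _ = _ := by ring
  rw [hOc, ← hYc]
  exact Nat.le_of_mul_le_mul_right hmain (pow_pos Fintype.card_pos _)

end Cfsg.Agent.H972.SymOrbit
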