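import Mathlib
import Cfsg.Agent.H972.Weights
import Cfsg.Agent.H972.SymOrbit
import Cfsg.Agent.LieClassical.SympCenter

/-!
# The exact lower bound for representations of `Sp_{2n}(q)`, `q` odd, in cross characteristic

If `K` is algebraically closed of characteristic different from that of `F` and the unipotent radical of
the Siegel parabolic subgroup of `Sp_{2n}(F)` acts non-trivially on a `K`-space of dimension `d`, then
`q^n - 1 ≤ 2 d`.
-/

set_option autoImplicit false
set_option linter.style.haveILetI false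

open Matrix Cfsg.Agent.H972.Weights Cfsg.Agent.H972.SymOrbit

namespace Cfsg.Agent.H972.SpBound

variable {F : Type*} [Field F] {n : ℕ}

/-- The additive group of symmetric matrices. -/
def symm (n : ℕ) (F : Type*) [Field F] : AddSubgroup (Matrix (Fin n) (Fin n) F) where
  carrier := {X | Xᵀ = X}
  add_mem' := fun {a b} ha hb => by
    simp only [Set.mem_ofPred_eq] at *
    rw [Matrix.transpose_add, ha, hb]
  zero_mem' := Matrix.transpose_zero
  neg_mem' := fun {a} ha => by
    simp only [Set.mem_ofPred_eq] at *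
    rw [Matrix.transpose_neg, ha]

theorem mem_symm {X : Matrix (Fin n) (Fin n) F} : X ∈ symm n F ↔ Xᵀ = X := Iff.rfl

/-- The unipotent radical of the Siegel parabolic. -/
def rad (n : ℕ) (F : Type*) [Field F] : Multiplicative (symm n F) →* Matrix.symplecticGroup (Fin n) F where
  toFun X := ⟨fromBlocks 1 (X.toAdd : Matrix (Fin n) (Fin n) F) 0 1,
    LieClassical.SympCenter.upper_mem n (mem_symm.mp X.toAdd.2)⟩
  map_one' := by
    apply Subtype.ext
    simp
  map_mul' X Y := by
    apply Subtype.ext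
    simp [fromBlocks_multiply, add_comm]

@[simp] theorem coe_rad (X : Multiplicative (symm n F)) :
    ((rad n F X : Matrix.symplecticGroup (Fin n) F) : Matrix (Fin n ⊕ Fin n) (Fin n ⊕ Fin n) F) =
      fromBlocks 1 (X.toAdd : Matrix (Fin n) (Fin n) F) 0 1 := rfl

/-- The Levi subgroup `GL_n`. -/
def levi (l : GL (Fin n) F) : Matrix.symplecticGroup (Fin n) F :=
  ⟨fromBlocks (l : Matrix (Fin n) (Fin n) F) 0 0 ((l⁻¹ : GL (Fin n) F) : Matrix (Fin n) (Fin n) F)ᵀ, by
    have h1 : (l : Matrix (Fin n) (Fin n) F) * ((l⁻¹ : GL (Fin n) F) : Matrix (Fin n) (Fin n) F) = 1 := by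
      rw [← Units.val_mul, mul_inv_cancel, Units.val_one]
    have h2 : ((l⁻¹ : GL (Fin n) F) : Matrix (Fin n) (Fin n) F)ᵀ * (l : Matrix (Fin n) (Fin n) F)ᵀ = 1 := by
      rw [← Matrix.transpose_mul, h1, Matrix.transpose_one]
    rw [SymplecticGroup.mem_iff, Matrix.J, fromBlocks_multiply, fromBlocks_transpose, fromBlocks_multiply]
    simp only [Matrix.transpose_transpose, Matrix.transpose_zero, Matrix.mul_zero, Matrix.zero_mul, zero_add,
      add_zero, Matrix.mul_neg, Matrix.neg_mul, Matrix.mul_one, h1, h2, neg_zero]⟩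

theorem coe_levi (l : GL (Fin n) F) :
    ((levi l : Matrix.symplecticGroup (Fin n) F) : Matrix (Fin n ⊕ Fin n) (Fin n ⊕ Fin n) F) =
      fromBlocks (l : Matrix (Fin n) (Fin n) F) 0 0 ((l⁻¹ : GL (Fin n) F) : Matrix (Fin n) (Fin n) F)ᵀ := rfl

/-- The action of `GL_n` on the symmetric matrices: `X ↦ l⁻¹ X l⁻ᵀ`. -/
def act (l : GL (Fin n) F) : Multiplicative (symm n F) →* Multiplicative (symm n F) :=
  AddMonoidHom.toMultiplicative
    { toFun := fun X => ⟨((l⁻¹ : GL (Fin n) F) : Matrix (Fin n) (Fin n) F) * (X : Matrix (Fin n) (Fin n) F) *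
        ((l⁻¹ : GL (Fin n) F) : Matrix (Fin n) (Fin n) F)ᵀ, by
          rw [mem_symm]
          simp [Matrix.mul_assoc, mem_symm.mp X.2]⟩
      map_zero' := by
        apply Subtype.ext
        simp
      map_add' := fun X Y => by
        apply Subtype.ext
        simp [Matrix.mul_add, Matrix.add_mul] }

theorem rad_act (l : GL (Fin n) F) (X : Multiplicative (symm n F)) :
    rad n F (act l X) = (levi l)⁻¹ * rad n F X * levi l := by
  rw [mul_assoc, eq_inv_mul_iff_mul_eq]
  have h1 : (l : Matrix (Fin n) (Fin n) F) * ((l⁻¹ : GL (Fin n) F) : Matrix (Fin n) (Fin n) F) = 1 := by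
    rw [← Units.val_mul, mul_inv_cancel, Units.val_one]
  apply Subtype.ext
  change (levi l : Matrix (Fin n ⊕ Fin n) (Fin n ⊕ Fin n) F) *
      (rad n F (act l X) : Matrix (Fin n ⊕ Fin n) (Fin n ⊕ Fin n) F) =
    (rad n F X : Matrix (Fin n ⊕ Fin n) (Fin n ⊕ Fin n) F) *
      (levi l : Matrix (Fin n ⊕ Fin n) (Fin n ⊕ Fin n) F)
  rw [coe_levi, coe_rad, coe_rad, fromBlocks_multiply, fromBlocks_multiply]
  have h2 : ((act l X).toAdd : Matrix (Fin n) (Fin n) F) =
      ((l⁻¹ : GL (Fin n) F) : Matrix (Fin n) (Fin n) F) * (X.toAdd : Matrix (Fin n) (Fin n) F) *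
        ((l⁻¹ : GL (Fin n) F) : Matrix (Fin n) (Fin n) F)ᵀ := rfl
  rw [h2]
  simp only [Matrix.mul_one, Matrix.one_mul, Matrix.mul_zero, Matrix.zero_mul, add_zero, zero_add]
  rw [← Matrix.mul_assoc, ← Matrix.mul_assoc, h1, Matrix.one_mul]

section Char

variable {K : Type*} [Field K]

/-- The character `X ↦ ψ(tr(T X))`. -/
def chi (ψ : Multiplicative F →* Kˣ) (T : Matrix (Fin n) (Fin n) F) : Multiplicative (symm n F) →* Kˣ where
  toFun X := ψ (Multiplicative.ofAdd (T * (X.toAdd : Matrix (Fin n) (Fin n) F)).trace)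
  map_one' := by
    simp
  map_mul' X Y := by
    rw [← map_mul, ← ofAdd_add, ← Matrix.trace_add, ← Matrix.mul_add]
    rfl

theorem chi_apply (ψ : Multiplicative F →* Kˣ) (T : Matrix (Fin n) (Fin n) F) (X : Multiplicative (symm n F)) :
    chi ψ T X = ψ (Multiplicative.ofAdd (T * (X.toAdd : Matrix (Fin n) (Fin n) F)).trace) := rfl

theorem chi_comp_act (ψ : Multiplicative F →* Kˣ) (T : Matrix (Fin n) (Fin n) F) (l : GL (Fin n) F) :
    (chi ψ T).comp (act l) = chi ψ (((l⁻¹ : GL (Fin n) F) : Matrix (Fin n) (Fin n) F)ᵀ * T *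
      ((l⁻¹ : GL (Fin n) F) : Matrix (Fin n) (Fin n) F)) := by
  refine MonoidHom.ext fun X => ?_
  rw [MonoidHom.comp_apply, chi_apply, chi_apply]
  have h2 : ((act l X).toAdd : Matrix (Fin n) (Fin n) F) =
      ((l⁻¹ : GL (Fin n) F) : Matrix (Fin n) (Fin n) F) * (X.toAdd : Matrix (Fin n) (Fin n) F) *
        ((l⁻¹ : GL (Fin n) F) : Matrix (Fin n) (Fin n) F)ᵀ := rfl
  have h3 : (T * ((act l X).toAdd : Matrix (Fin n) (Fin n) F)).trace =
      ((((l⁻¹ : GL (Fin n) F) : Matrix (Fin n) (Fin n) F)ᵀ * T *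
        ((l⁻¹ : GL (Fin n) F) : Matrix (Fin n) (Fin n) F)) * (X.toAdd : Matrix (Fin n) (Fin n) F)).trace := by
    rw [h2, ← Matrix.mul_assoc, Matrix.trace_mul_comm]
    simp only [Matrix.mul_assoc]
  rw [h3]

/-- The characters attached to distinct symmetric matrices are distinct, if `ψ ≠ 1` and `2 ≠ 0`. -/
theorem chi_injective (h2 : (2 : F) ≠ 0) {ψ : Multiplicative F →* Kˣ} (hψ : ψ ≠ 1)
    {S T : Matrix (Fin n) (Fin n) F} (hS : Sᵀ = S) (hT : Tᵀ = T) (h : chi ψ S = chi ψ T) : S = T := by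
  by_contra hne
  have hD : (S - T)ᵀ = S - T := by rw [Matrix.transpose_sub, hS, hT]
  obtain ⟨y, hy⟩ := exists_value_ne_zero h2 hD (sub_ne_zero.mpr hne)
  apply hψ
  refine MonoidHom.ext fun b => ?_
  obtain ⟨a, rfl⟩ : ∃ a : F, b = Multiplicative.ofAdd (a * (y ⬝ᵥ ((S - T) *ᵥ y))) :=
    ⟨b.toAdd / (y ⬝ᵥ ((S - T) *ᵥ y)), by rw [div_mul_cancel₀ _ hy]; rfl⟩
  have hX : (a • vecMulVec y y)ᵀ = a • vecMulVec y y := by
    rw [Matrix.transpose_smul, Matrix.transpose_vecMulVec]
  have h3 := DFunLike.congr_fun h (Multiplicative.ofAdd (⟨a • vecMulVec y y, mem_symm.mpr hX⟩ : symm n F))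
  rw [chi_apply, chi_apply] at h3
  have h4 : ∀ M : Matrix (Fin n) (Fin n) F, (M * (a • vecMulVec y y)).trace = a * (y ⬝ᵥ (M *ᵥ y)) := by
    intro M
    rw [Matrix.mul_smul, Matrix.trace_smul, Matrix.mul_vecMulVec, Matrix.trace_vecMulVec, smul_eq_mul,
      dotProduct_comm]
  have h5 : ψ (Multiplicative.ofAdd (a * (y ⬝ᵥ (S *ᵥ y)))) = ψ (Multiplicative.ofAdd (a * (y ⬝ᵥ (T *ᵥ y)))) := by
    rw [← h4, ← h4]
    exact h3
  rw [Matrix.sub_mulVec, dotProduct_sub, mul_sub, ofAdd_sub, map_div, h5, div_self']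
  rfl

variable [Fintype F]

/-- Every character is of this form. -/
theorem exists_eq_chi (h2 : (2 : F) ≠ 0) {ψ : Multiplicative F →* Kˣ} (hψ : ψ ≠ 1)
    [HasEnoughRootsOfUnity K (Monoid.exponent (Multiplicative (symm n F)))]
    (χ : Multiplicative (symm n F) →* Kˣ) : ∃ S : Matrix (Fin n) (Fin n) F, Sᵀ = S ∧ χ = chi ψ S := by
  classical
  have hfin : Finite (Multiplicative (symm n F) →* Kˣ) := by
    obtain ⟨e⟩ := CommGroup.monoidHom_mulEquiv_of_hasEnoughRootsOfUnity (Multiplicative (symm n F)) K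
    exact Finite.of_equiv _ e.symm.toEquiv
  haveI : Fintype (Multiplicative (symm n F) →* Kˣ) := Fintype.ofFinite _
  haveI : Fintype (symm n F) := Fintype.ofFinite _
  have hcard : Fintype.card (Multiplicative (symm n F) →* Kˣ) = Fintype.card (symm n F) := by
    obtain ⟨e⟩ := CommGroup.monoidHom_mulEquiv_of_hasEnoughRootsOfUnity (Multiplicative (symm n F)) K
    exact Fintype.card_congr (e.toEquiv.trans Multiplicative.toAdd)
  have hinj : Function.Injective (fun S : symm n F => chi (K := K) ψ (S : Matrix (Fin n) (Fin n) F)) := by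
    intro S T h
    exact Subtype.ext (chi_injective h2 hψ (mem_symm.mp S.2) (mem_symm.mp T.2) h)
  have hbij := (Fintype.bijective_iff_injective_and_card _).mpr ⟨hinj, hcard.symm⟩
  obtain ⟨S, hS⟩ := hbij.2 χ
  exact ⟨S, mem_symm.mp S.2, hS.symm⟩

end Char

/-- **The lower bound.**  Over an algebraically closed field of characteristic different from that of `F`
(`q` odd) a representation of `Sp_{2n}(F)` in which the unipotent radical of the Siegel parabolic acts
non-trivially has degree at least `(q^n - 1)/2`. -/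
theorem le_two_mul_finrank [Fintype F] (h2 : (2 : F) ≠ 0) {K : Type*} [Field K] [IsAlgClosed K]
    (hK : (Fintype.card F : K) ≠ 0) {U : Type*} [AddCommGroup U] [Module K U] [FiniteDimensional K U]
    (ρ : Matrix.symplecticGroup (Fin n) F →* Module.End K U) (h : ∃ X, ρ (rad n F X) ≠ 1) :
    Fintype.card F ^ n - 1 ≤ 2 * Module.finrank K U := by
  classical
  -- the order of the radical and its exponent are invertible
  have hpow : ∃ k, Nat.card (Multiplicative (symm n F)) ∣ Fintype.card F ^ k := by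
    refine ⟨n * n, ?_⟩
    have h1 := AddSubgroup.card_addSubgroup_dvd_card (symm n F)
    have h3 : Nat.card (Matrix (Fin n) (Fin n) F) = Fintype.card F ^ (n * n) := by
      change Nat.card (Fin n → Fin n → F) = _
      rw [Nat.card_eq_fintype_card]
      simp [pow_mul]
    rw [h3] at h1
    exact h1
  have hunit : ∀ m : ℕ, (∃ k, m ∣ Fintype.card F ^ k) → (m : K) ≠ 0 := by
    rintro m ⟨k, c, hc⟩ h0
    apply pow_ne_zero k hK
    have := congrArg (Nat.cast : ℕ → K) hc
    rw [Nat.cast_mul, h0, zero_mul, Nat.cast_pow] at this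
    exact this
  have hcardK : (Nat.card (Multiplicative (symm n F)) : K) ≠ 0 := hunit _ hpow
  haveI : NeZero ((Monoid.exponent (Multiplicative (symm n F)) : ℕ) : K) := by
    constructor
    apply hunit
    obtain ⟨k, hk⟩ := hpow
    exact ⟨k, (Group.exponent_dvd_nat_card).trans hk⟩
  haveI : NeZero ((Monoid.exponent (Multiplicative F) : ℕ) : K) := by
    constructor
    apply hunit
    refine ⟨1, ?_⟩
    rw [pow_one]
    have := Group.exponent_dvd_nat_card (G := Multiplicative F)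
    rwa [Nat.card_eq_fintype_card, Fintype.card_multiplicative] at this
  obtain ⟨ψ, hψ⟩ : ∃ ψ : Multiplicative F →* Kˣ, ψ ≠ 1 := by
    obtain ⟨φ, hφ⟩ := CommGroup.exists_apply_ne_one_of_hasEnoughRootsOfUnity (Multiplicative F) K
      (a := Multiplicative.ofAdd (1 : F)) (by simp)
    exact ⟨φ, fun h0 => hφ (by rw [h0]; rfl)⟩
  obtain ⟨χ, hχ, hw⟩ := exists_hasWeight hcardK (ρ.comp (rad n F)) h
  obtain ⟨S, hS, rfl⟩ := exists_eq_chi h2 hψ χ
  have hS0 : S ≠ 0 := by
    rintro rfl
    apply hχ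
    refine MonoidHom.ext fun X => ?_
    rw [chi_apply]
    simp
  have hall : ∀ T : orb S, HasWeight (ρ.comp (rad n F)) (chi ψ (T : Matrix (Fin n) (Fin n) F)) := by
    rintro ⟨T, l, rfl⟩
    have := hw.conj (levi l⁻¹) (act l⁻¹) (rad_act l⁻¹)
    rw [chi_comp_act, inv_inv] at this
    exact this
  have hle := card_le_finrank (ρ.comp (rad n F)) (fun T : orb S => chi ψ (T : Matrix (Fin n) (Fin n) F))
    (fun T T' hTT => Subtype.ext (chi_injective h2 hψ (orb_symm hS T.2) (orb_symm hS T'.2) hTT)) hall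
  exact (le_two_mul_card_orb h2 hS hS0).trans (Nat.mul_le_mul_left 2 hle)

end Cfsg.Agent.H972.SpBound
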