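import Cfsg.Agent.H101.RealOdd
import Cfsg.Agent.H463.Sp.Base

/-!
# Criteria for `RealOdd` parallel to those for `PairN` (helper972)

The criteria of `H729/PairBase.lean` and `H463/Sp/Base.lean` (helper729, helper463) with the conclusion `RealOdd`:
an involution which normalizes `⟨x⟩`, `x` of odd prime order commuting with no involution, inverts `x`.
-/

set_option autoImplicit false

namespace Cfsg.Agent.H972.RO

open Subgroup Cfsg.Agent.H101.RO Cfsg.Agent.H729.PairBase Cfsg.Agent.H463.Pair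

variable {S : Type*} [Group S]

/-- `S` has an element `x` of order `r` inverted by an involution and commuting with no involution. -/
def RealAt (S : Type*) [Group S] (r : ℕ) : Prop :=
  ∃ x y : S, orderOf x = r ∧ orderOf y = 2 ∧ y * x * y⁻¹ = x⁻¹ ∧ ∀ u : S, orderOf u = 2 → ¬ Commute u x

theorem RealAt.realOdd [Finite S] {r : ℕ} (hr : r.Prime) (hr2 : r ≠ 2) (h : RealAt S r) : RealOdd S := by
  obtain ⟨x, y, hx, -, hy, hC⟩ := h
  exact RealOdd.of_elts (k := 1) (y := y) hr hr2 le_rfl (by rw [hx, pow_one]) hy fun t ht h => hC t ht h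

theorem RealAt.congr {T : Type*} [Group T] {r : ℕ} (e : S ≃* T) (h : RealAt S r) : RealAt T r := by
  obtain ⟨x, y, hx, hy, hi, hC⟩ := h
  refine ⟨e x, e y, by rw [MulEquiv.orderOf_eq, hx], by rw [MulEquiv.orderOf_eq, hy], ?_, fun u hu hc => ?_⟩
  · rw [← map_mul, ← map_inv, ← map_mul, hi, map_inv]
  · refine hC (e.symm u) (by rw [MulEquiv.orderOf_eq, hu]) ?_
    have := hc.map e.symm
    rwa [MulEquiv.symm_apply_apply] at this

/-- **Criterion.** `x` of order `r`, `y` an involution normalizing `⟨x⟩`, no involution commutes with `x`. -/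
theorem of_odd [Finite S] {r : ℕ} (hr : r.Prime) (hr2 : r ≠ 2) {x y : S} (hx : orderOf x = r)
    (hy : orderOf y = 2) (hn : y ∈ normalizer ((zpowers x : Subgroup S) : Set S))
    (hC : ∀ u : S, orderOf u = 2 → ¬ Commute u x) : RealAt S r := by
  have hx1 : orderOf x = r ^ 1 := by rw [hx, pow_one]
  have hy2 : y ^ 2 = 1 := by rw [← hy]; exact pow_orderOf_eq_one _
  exact ⟨x, y, hx, hy, inv_of_sq_comm hr hr2 hx1 hn (by rw [hy2, one_mul, mul_one]) (hC y hy), hC⟩

theorem of_inv [Finite S] {r : ℕ} (hr : r.Prime) (hr2 : r ≠ 2) {x y : S} (hx : orderOf x = r)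
    (hy : orderOf y = 2) (hn : y * x * y⁻¹ = x⁻¹) (hC : NoTwo S r) : RealAt S r := by
  refine of_odd hr hr2 hx hy ?_ fun u hu => hC u x hu hx
  rw [Subgroup.mem_normalizer_iff]
  have h1 : ∀ g : S, g ∈ zpowers x → y * g * y⁻¹ ∈ zpowers x := by
    intro g hg
    obtain ⟨n, rfl⟩ := mem_zpowers_iff.1 hg
    rw [← conj_zpow, hn]
    exact zpow_mem (inv_mem (mem_zpowers x)) n
  intro g
  refine ⟨h1 g, fun h => ?_⟩
  have h2 := h1 _ h
  have hyy : y * y = 1 := by rw [← pow_two, ← hy, pow_orderOf_eq_one]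
  have hyi : y⁻¹ = y := inv_eq_of_mul_eq_one_left hyy
  have h3 : y * (y * g * y⁻¹) * y⁻¹ = g := by
    rw [hyi]
    calc y * (y * g * y) * y = (y * y) * g * (y * y) := by group
      _ = g := by rw [hyy, one_mul, mul_one]
  rwa [h3] at h2

theorem of_two [Finite S] {r : ℕ} (hr : r.Prime) (hr2 : r ≠ 2) {s t : S} (hs : s * s = 1)
    (ht : t * t = 1) (h : orderOf (s * t) = r) (hC : NoTwo S r) : RealAt S r := by
  have hsi : s⁻¹ = s := inv_eq_of_mul_eq_one_left hs
  have hti : t⁻¹ = t := inv_eq_of_mul_eq_one_left ht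
  have hs1 : s ≠ 1 := by
    rintro rfl
    rw [one_mul] at h
    have h2 : orderOf t ∣ 2 := orderOf_dvd_of_pow_eq_one (by rw [pow_two, ht])
    rw [h] at h2
    exact hr2 ((Nat.prime_dvd_prime_iff_eq hr Nat.prime_two).1 h2)
  refine of_inv hr hr2 h (orderOf_eq_prime (by rw [pow_two, hs]) hs1) ?_ hC
  rw [hsi, mul_inv_rev, hsi, hti]
  calc s * (s * t) * s = (s * s) * t * s := by group
    _ = t * s := by rw [hs, one_mul]

theorem of_even [Finite S] {r : ℕ} (hr : r.Prime) (hr2 : r ≠ 2) {x : S} (hx : orderOf x = r)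
    (hN : 2 ∣ Nat.card (normalizer ((zpowers x : Subgroup S) : Set S))) (hC : NoTwo S r) : RealAt S r := by
  have : Fact (Nat.Prime 2) := ⟨Nat.prime_two⟩
  obtain ⟨y, hy⟩ := exists_prime_orderOf_dvd_card' 2 hN
  exact of_odd hr hr2 hx (by rw [orderOf_coe, hy]) y.2 fun u hu => hC u x hu hx

theorem of_odd_even [Finite S] {r : ℕ} (hr : r.Prime) (hr2 : r ≠ 2) {x : S} (hx : orderOf x = r)
    (hC : ¬ 2 ∣ Nat.card (centralizer ({x} : Set S)))
    (hN : 2 ∣ Nat.card (normalizer ((zpowers x : Subgroup S) : Set S))) : RealAt S r := by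
  have : Fact (Nat.Prime 2) := ⟨Nat.prime_two⟩
  obtain ⟨y, hy⟩ := exists_prime_orderOf_dvd_card' 2 hN
  exact of_odd hr hr2 hx (by rw [orderOf_coe, hy]) y.2 fun u hu hc =>
    hC (dvd_card_centralizer (by rw [hu]) hc)

theorem of_gen [Finite S] {r k m : ℕ} (hr : r.Prime) (hr2 : r ≠ 2) {x f : S} (hx : orderOf x = r)
    (hf : f ^ (2 * m) = 1) (hf1 : f ^ m ≠ 1) (hfx : f * x * f⁻¹ = x ^ k)
    (hC : ∀ c : S, c * x = x * c → ∃ i : ℕ, c = x ^ i) : RealAt S r := by
  refine of_odd hr hr2 (y := f ^ m) hx ?_ (pow_mem (mem_normalizer_of_conj_pow hfx) m) ?_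
  · exact orderOf_eq_prime (by rw [← pow_mul, mul_comm, hf]) hf1
  · intro u hu hc
    obtain ⟨i, rfl⟩ := hC u hc
    have h1 : orderOf (x ^ i) ∣ orderOf x := orderOf_pow_dvd i
    rw [hu, hx] at h1
    exact hr2 ((Nat.prime_dvd_prime_iff_eq Nat.prime_two hr).1 h1).symm

theorem of_card_fermat [Finite S] [IsSimpleGroup S] {r k : ℕ} (hr : r.Prime) (hk : r - 1 = 2 ^ k)
    (hr2 : r ≠ 2) (h1 : r ∣ Nat.card S) (h2 : ¬ r ^ 2 ∣ Nat.card S) (hne : Nat.card S ≠ r) (hC : NoTwo S r) :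
    RealAt S r := by
  obtain ⟨x, e, n, hx, he, he1, -, hN, -, -⟩ := exists_data hr h1 h2 hne
  refine of_even hr hr2 hx ?_ hC
  rw [hN]
  refine dvd_mul_of_dvd_right ?_ _
  rw [hk] at he
  obtain ⟨j, hj, rfl⟩ := (Nat.dvd_prime_pow Nat.prime_two).1 he
  refine dvd_pow_self 2 ?_
  rintro rfl
  exact he1 (pow_zero 2)

theorem of_card_cent [Finite S] [IsSimpleGroup S] {r m : ℕ} (hr : r.Prime) (hr2 : r ≠ 2)
    (hm : Nat.card S = r * m) (hm2 : ¬ r ∣ m) (hm1 : m ≠ 1) (hC : NoTwo S r)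
    (Pc : ℕ → Prop) (hPc : ∀ x : S, orderOf x = r → ∀ c, Nat.card (centralizer ({x} : Set S)) = r * c → Pc c)
    (har : ∀ c, Pc c → ∀ e, e ∣ r - 1 → e ≠ 1 → ¬ 2 ∣ e → (c * e) % r ≠ m % r) :
    RealAt S r := by
  have hr0 : 0 < r := hr.pos
  have h2 : ¬ r ^ 2 ∣ Nat.card S := by
    rw [hm, pow_two]
    exact fun h => hm2 (Nat.dvd_of_mul_dvd_mul_left hr0 h)
  have hne : Nat.card S ≠ r := by
    rw [hm]
    intro h
    exact hm1 (by nlinarith [Nat.eq_of_mul_eq_mul_left hr0 (h.trans (mul_one r).symm)])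
  obtain ⟨x, e, n, hx, he, he1, hn, hN, hS, hd⟩ := exists_data hr (hm ▸ dvd_mul_right r m) h2 hne
  refine of_even hr hr2 hx ?_ hC
  rw [hN]
  refine dvd_mul_of_dvd_right ?_ _
  by_contra h
  obtain ⟨c, hc⟩ := hd
  refine har c (hPc x hx c hc) e he he1 h ?_
  rw [hm, hc] at hS
  have h3 : m = n * (c * e) := by
    apply Nat.eq_of_mul_eq_mul_left hr0
    rw [hS]; ring
  rw [h3, Nat.mul_mod n, hn, one_mul, Nat.mod_mod]

variable {G : Type*} [Group G]

open Cfsg.Agent.H463.Sp (mem_of_index_two)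

theorem of_index_two [Finite G] {H : Subgroup G} (hi : H.index = 2) {r : ℕ} (hr : r.Prime) (hr2 : r ≠ 2) {x : G}
    (hx : orderOf x = r) (hC : ¬ 2 ∣ Nat.card (centralizer ({x} : Set G)))
    (hN : 4 ∣ Nat.card (normalizer ((zpowers x : Subgroup G) : Set G))) : RealAt H r := by
  classical
  have hr' : ¬ 2 ∣ r := fun h => hr2 ((Nat.prime_dvd_prime_iff_eq Nat.prime_two hr).1 h).symm
  have hxH := mem_of_index_two hi hr' hx
  have hn : H.Normal := Subgroup.normal_of_index_eq_two hi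
  set N : Subgroup G := normalizer ((zpowers x : Subgroup G) : Set G) with hNd
  have h1 : H.relIndex N ∣ 2 := hi ▸ Subgroup.relIndex_dvd_index_of_normal H N
  have h2 : Nat.card (H ⊓ N : Subgroup G) * H.relIndex N = Nat.card N := by
    have := Subgroup.card_mul_index (H.subgroupOf N)
    rw [Subgroup.relIndex]
    rw [← this]
    congr 1
    rw [← Subgroup.subgroupOf_map_subtype]
    exact (Nat.card_congr ((H.subgroupOf N).equivMapOfInjective _ N.subtype_injective).toEquiv).symm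
  have h3 : 2 ∣ Nat.card (H ⊓ N : Subgroup G) := by
    rcases (Nat.dvd_prime Nat.prime_two).1 h1 with h | h
    · rw [h, mul_one] at h2
      rw [h2]
      exact (by norm_num : 2 ∣ 4).trans hN
    · rw [h] at h2
      rw [← h2] at hN
      exact Nat.dvd_of_mul_dvd_mul_right (by norm_num : 0 < 2) hN
  have : Fact (Nat.Prime 2) := ⟨Nat.prime_two⟩
  obtain ⟨y, hy⟩ := exists_prime_orderOf_dvd_card' 2 h3
  have hyH : (y : G) ∈ H := y.2.1
  have hyN : (y : G) ∈ N := y.2.2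
  have hx' : orderOf (⟨x, hxH⟩ : H) = r := by rw [Subgroup.orderOf_mk]; exact hx
  refine of_odd hr hr2 (x := (⟨x, hxH⟩ : H)) (y := (⟨y, hyH⟩ : H)) hx'
    (by rw [Subgroup.orderOf_mk, Subgroup.orderOf_coe, hy]) ?_ ?_
  · have h4 : (y : G) * x * (y : G)⁻¹ ∈ zpowers x := (Subgroup.mem_normalizer_iff.1 hyN x).1 (mem_zpowers x)
    have h5 := (isOfFinOrder_of_finite x).mem_zpowers_iff_mem_range_orderOf.1 h4
    rw [Finset.mem_image] at h5
    obtain ⟨k, -, hk⟩ := h5
    refine mem_normalizer_of_conj_pow (k := k) (Subtype.ext ?_)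
    exact hk.symm
  · intro u hu hc
    have h4 : Commute (u : G) x := congrArg Subtype.val hc
    exact hC (dvd_card_centralizer (x := (u : G)) (y := x) (r := 2) (by rw [Subgroup.orderOf_coe, hu]) h4)

theorem of_sub [Finite G] {r : ℕ} (hr : r.Prime) (hr2 : r ≠ 2) (hd : r ∣ Nat.card G)
    (hC : ∀ P : Subgroup G, Nat.card P = r → ¬ 2 ∣ Nat.card (centralizer (P : Set G)))
    (hN : ∀ P : Subgroup G, Nat.card P = r → 2 ∣ Nat.card (normalizer (P : Set G))) : RealAt G r := by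
  have : Fact r.Prime := ⟨hr⟩
  obtain ⟨x, hx⟩ := exists_prime_orderOf_dvd_card' (G := G) r hd
  have h := hC (zpowers x) (by rw [Nat.card_zpowers, hx])
  rw [centralizer_zpowers_eq] at h
  exact of_odd_even hr hr2 hx h (hN (zpowers x) (by rw [Nat.card_zpowers, hx]))

end Cfsg.Agent.H972.RO
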