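import Mathlib
import Cfsg.Agent.H101.NilpPerm

/-!
# Nilpotent groups of automorphisms of finite reduced commutative algebras (helper972)

* `index_ker_le` : a nilpotent group acting on `t ≥ 1` points induces a group of order at most `2 ^ (t - 1)`;
* `index_le` : a nilpotent group acting on a finite reduced commutative algebra `E` over a finite field induces a group
  of order at most `2 ^ (t - 1) * ∏ c I`, where `I` runs over the `t` maximal ideals and `c I` bounds the number of
  automorphisms of `E / I` induced by the kernel of the action on the maximal ideals; in particular `c I = dim (E / I)`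
  (`ncard_le`).
-/

set_option autoImplicit false

namespace Cfsg.Agent.H972.NilpRing

open Subgroup

universe u v

/-! ### permutation groups -/

theorem T_le {n : ℕ} (hn : 1 ≤ n) : H101.NilpArith.T n ≤ 2 ^ (n - 1) := by
  unfold H101.NilpArith.T
  refine Nat.pow_le_pow_right two_pos ?_
  have h := sub_one_mul_padicValNat_factorial_lt_of_ne_zero (p := 2) (n := n) (by omega)
  rw [Nat.factorization_def _ Nat.prime_two]
  omega

theorem G_le {n : ℕ} (hn : 1 ≤ n) : H101.NilpArith.G n ≤ 2 ^ (n - 1) := by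
  unfold H101.NilpArith.G
  split_ifs with h
  · rcases Nat.eq_or_lt_of_le (show 3 ≤ n by omega) with h3 | h3
    · rw [← h3, H101.NilpArith.T_zero]
      norm_num
    · have h1 := T_le (n := n - 3) (by omega)
      have h2 : 2 ^ (n - 1) = 8 * 2 ^ (n - 3 - 1) := by
        rw [show n - 1 = n - 3 - 1 + 3 by omega, pow_add]
        ring
      omega
  · exact T_le hn

/-- a nilpotent group acting on `t ≥ 1` points induces a group of order at most `2 ^ (t - 1)` -/
theorem index_ker_le (N : Type u) [Group N] [hN : Group.IsNilpotent N] (Ω : Type v) [Finite Ω] [Nonempty Ω]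
    [MulAction N Ω] : (MulAction.toPermHom N Ω).ker.index ≤ 2 ^ (Nat.card Ω - 1) :=
  (H101.NilpPerm.index_ker_le_G N _ Ω rfl).trans (G_le Nat.card_pos)

/-! ### algebras -/

section Ring

variable {F : Type u} [Field F] {E : Type v} [CommRing E] [Algebra F E]

/-- the action on the maximal ideals -/
def mv (σ : E ≃ₐ[F] E) (I : MaximalSpectrum E) : MaximalSpectrum E :=
  ⟨I.asIdeal.comap (σ.symm : E →+* E), Ideal.comap_isMaximal_of_equiv (σ.symm : E ≃+* E)⟩

theorem mem_mv (σ : E ≃ₐ[F] E) (I : MaximalSpectrum E) (x : E) : x ∈ (mv σ I).asIdeal ↔ σ.symm x ∈ I.asIdeal := Iff.rfl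

/-- the action on the maximal ideals -/
@[reducible] def mvAction : MulAction (E ≃ₐ[F] E) (MaximalSpectrum E) where
  smul := mv
  one_smul I := by
    apply MaximalSpectrum.ext
    ext x
    exact Iff.rfl
  mul_smul σ τ I := by
    apply MaximalSpectrum.ext
    ext x
    exact Iff.rfl

variable {N : Type*} [Group N] (ρ : N →* (E ≃ₐ[F] E))

/-- the maps `E → E / I` induced by the elements fixing all maximal ideals -/
def maps (I : MaximalSpectrum E) : Set (E → E ⧸ I.asIdeal) :=
  {f | ∃ g : N, (∀ J, mv (ρ g) J = J) ∧ f = fun x => Ideal.Quotient.mk I.asIdeal (ρ g x)}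

theorem index_le [hN : Group.IsNilpotent N] [Finite E] [IsReduced E] [Nontrivial E] [Fintype (MaximalSpectrum E)]
    (c : MaximalSpectrum E → ℕ) (hc : ∀ I, (maps ρ I).ncard ≤ c I) :
    ρ.ker.index ≤ 2 ^ (Nat.card (MaximalSpectrum E) - 1) * ∏ I : MaximalSpectrum E, c I := by
  classical
  let act0 : MulAction (E ≃ₐ[F] E) (MaximalSpectrum E) := mvAction
  let act : MulAction N (MaximalSpectrum E) := MulAction.compHom _ ρ
  have hsm : ∀ (g : N) (I : MaximalSpectrum E), g • I = mv (ρ g) I := fun _ _ => rfl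
  set K0 := (MulAction.toPermHom N (MaximalSpectrum E)).ker with hK0
  have hmem : ∀ g : N, g ∈ K0 ↔ ∀ J, mv (ρ g) J = J := by
    intro g
    rw [hK0, MonoidHom.mem_ker]
    constructor
    · intro h J
      have := congrArg (fun σ : Equiv.Perm (MaximalSpectrum E) => σ J) h
      exact this
    · intro h
      ext1 J
      exact h J
  have h1 : K0.index ≤ 2 ^ (Nat.card (MaximalSpectrum E) - 1) := index_ker_le N _
  have hle : ρ.ker ≤ K0 := by
    intro g hg
    rw [hmem]
    intro J
    rw [MonoidHom.mem_ker.1 hg]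
    exact (one_smul (E ≃ₐ[F] E) J : (1 : E ≃ₐ[F] E) • J = J)
  rw [← Subgroup.relIndex_mul_index hle, mul_comm]
  refine Nat.mul_le_mul h1 ?_
  -- the kernel
  let ρ0 : ↥K0 →* (E ≃ₐ[F] E) := ρ.comp K0.subtype
  have h2 : ρ.ker.relIndex K0 = Nat.card ↥ρ0.range := by
    have : ρ.ker.subgroupOf K0 = ρ0.ker := by
      ext x
      rfl
    rw [Subgroup.relIndex, this, Subgroup.index_ker]
  rw [h2]
  have hfin : Finite (E ≃ₐ[F] E) := Finite.of_injective (fun σ : E ≃ₐ[F] E => (σ : E → E)) DFunLike.coe_injective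
  have hfinm : ∀ I : MaximalSpectrum E, Finite ↥(maps ρ I) := fun I => by
    have : Finite (E ⧸ I.asIdeal) := Finite.of_surjective _ Ideal.Quotient.mk_surjective
    exact Set.Finite.to_subtype (Set.toFinite _)
  let Ψ : ↥ρ0.range → ∀ I : MaximalSpectrum E, ↥(maps ρ I) := fun s I =>
    ⟨fun x => Ideal.Quotient.mk I.asIdeal (s.1 x), by
      obtain ⟨g, hg⟩ := s.2
      refine ⟨(g : N), (hmem _).1 g.2, ?_⟩
      rw [← hg]
      rfl⟩
  have hinj : Function.Injective Ψ := by
    intro s t hst
    apply Subtype.ext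
    ext x
    have h3 : ∀ I : MaximalSpectrum E, Ideal.Quotient.mk I.asIdeal (s.1 x) = Ideal.Quotient.mk I.asIdeal (t.1 x) := by
      intro I
      have h4 := congrArg (fun F' => (F' I : E → E ⧸ I.asIdeal) x) hst
      exact h4
    apply (IsArtinianRing.equivPi E).injective
    funext I
    rw [IsArtinianRing.equivPi_apply, IsArtinianRing.equivPi_apply]
    exact h3 I
  calc Nat.card ↥ρ0.range ≤ Nat.card (∀ I : MaximalSpectrum E, ↥(maps ρ I)) := Nat.card_le_card_of_injective Ψ hinj
    _ = ∏ I : MaximalSpectrum E, (maps ρ I).ncard := by rw [Nat.card_pi]; rfl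
    _ ≤ _ := Finset.prod_le_prod' fun I _ => hc I

/-- the number of induced maps is at most the degree -/
theorem ncard_le [Finite F] [Finite E] (I : MaximalSpectrum E) :
    (maps ρ I).ncard ≤ Module.finrank F (E ⧸ I.asIdeal) := by
  classical
  have hmax := I.isMaximal
  let _ : Field (E ⧸ I.asIdeal) := Ideal.Quotient.field I.asIdeal
  have hfinE : Finite (E ⧸ I.asIdeal) := Finite.of_surjective _ Ideal.Quotient.mk_surjective
  have : FiniteDimensional F (E ⧸ I.asIdeal) := Module.Finite.of_finite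
  have hfinh : Finite ((E ⧸ I.asIdeal) →ₐ[F] (E ⧸ I.asIdeal)) := Finite.of_injective
    (fun σ : (E ⧸ I.asIdeal) →ₐ[F] (E ⧸ I.asIdeal) => (σ : (E ⧸ I.asIdeal) → (E ⧸ I.asIdeal))) DFunLike.coe_injective
  have h1 : Nat.card ((E ⧸ I.asIdeal) →ₐ[F] (E ⧸ I.asIdeal)) ≤ Module.finrank F (E ⧸ I.asIdeal) := by
    have h0 := AlgHom.card_le (F := F) (K := E ⧸ I.asIdeal)
    rw [← Nat.card_eq_fintype_card] at h0
    exact h0
  refine le_trans ?_ h1
  have hsub : maps ρ I ⊆ Set.range (fun (σ : (E ⧸ I.asIdeal) →ₐ[F] (E ⧸ I.asIdeal)) (x : E) =>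
      σ (Ideal.Quotient.mk I.asIdeal x)) := by
    rintro f ⟨g, hg, rfl⟩
    have hle : I.asIdeal ≤ I.asIdeal.comap ((ρ g : E ≃ₐ[F] E) : E →ₐ[F] E) := by
      intro x hx
      rw [Ideal.mem_comap]
      have h2 := hg I
      have h3 : (ρ g) x ∈ (mv (ρ g) I).asIdeal := by
        rw [mem_mv, AlgEquiv.symm_apply_apply]
        exact hx
      rw [h2] at h3
      exact h3
    refine ⟨Ideal.quotientMapₐ I.asIdeal ((ρ g : E ≃ₐ[F] E) : E →ₐ[F] E) hle, ?_⟩
    funext x
    rfl
  calc (maps ρ I).ncard ≤ _ := Set.ncard_le_ncard hsub (Set.toFinite _)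
    _ ≤ Nat.card ((E ⧸ I.asIdeal) →ₐ[F] (E ⧸ I.asIdeal)) := by
      rw [← Set.image_univ, ← Set.ncard_univ]
      exact Set.ncard_image_le (Set.toFinite _)

end Ring

end Cfsg.Agent.H972.NilpRing
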