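import Mathlib
import Cfsg.Agent.H972.NSm
import Cfsg.Agent.H972.NilpRing
import Cfsg.Agent.S0252
import Cfsg.Agent.S0253
import Cfsg.Agent.S0254

/-!
# Nilpotent subgroups of the alternating groups (helper972, for S2242)
-/

set_option autoImplicit false

namespace Cfsg.Agent.H972.AltSmall

open Subgroup NSm

theorem T_val {n k : ℕ} (h : 2 ^ k ∣ n.factorial) (h' : ¬ 2 ^ (k + 1) ∣ n.factorial) : H101.NilpArith.T n = 2 ^ k := by
  unfold H101.NilpArith.T
  congr 1
  have h1 := (Nat.prime_two.pow_dvd_iff_le_factorization (Nat.factorial_ne_zero n)).1 h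
  have h2 : ¬ k + 1 ≤ (n.factorial).factorization 2 := fun h3 =>
    h' ((Nat.prime_two.pow_dvd_iff_le_factorization (Nat.factorial_ne_zero n)).2 h3)
  omega

theorem small_alt {n : ℕ} (hn : 5 ≤ n) : NSm.Small ↥(alternatingGroup (Fin n)) := by
  intro N hN
  have hcard : 2 * Nat.card ↥(alternatingGroup (Fin n)) = n.factorial := by
    have : Nontrivial (Fin n) := ⟨⟨⟨0, by omega⟩, ⟨1, by omega⟩, by simp⟩⟩
    have h1 := two_mul_nat_card_alternatingGroup (α := Fin n)
    rw [h1, Nat.card_perm, Nat.card_eq_fintype_card, Fintype.card_fin]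
  have e : ↥N ≃* ↥(N.map (alternatingGroup (Fin n)).subtype) :=
    N.equivMapOfInjective _ (alternatingGroup (Fin n)).subtype_injective
  have h1 : Group.IsNilpotent ↥(N.map (alternatingGroup (Fin n)).subtype) := Group.nilpotent_of_mulEquiv e
  have h2 : Nat.card ↥N ≤ H101.NilpArith.G n := by
    have h3 := H101.NilpPerm.card_le_G _ h1
    rwa [← Nat.card_congr e.toEquiv, Nat.card_eq_fintype_card (α := Fin n), Fintype.card_fin] at h3
  rcases Nat.lt_or_ge n 8 with h8 | h8
  · have hd : Nat.card ↥N ∣ Nat.card ↥(alternatingGroup (Fin n)) := Subgroup.card_subgroup_dvd_card N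
    interval_cases n
    · rw [H101.NilpArith.G, if_neg (by norm_num), T_val (n := 5) (k := 3) (by decide) (by decide)] at h2
      have h4 : Nat.card ↥(alternatingGroup (Fin 5)) = 60 := by
        have : Nat.factorial 5 = 120 := rfl
        omega
      rw [h4] at hd ⊢
      generalize Nat.card ↥N = x at h2 hd
      interval_cases x <;> omega
    · rw [H101.NilpArith.G, if_neg (by norm_num), T_val (n := 6) (k := 4) (by decide) (by decide)] at h2
      have : Nat.factorial 6 = 720 := rfl
      nlinarith
    · rw [H101.NilpArith.G, if_pos (by norm_num), T_val (n := 7 - 3) (k := 3) (by decide) (by decide)] at h2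
      have : Nat.factorial 7 = 5040 := rfl
      nlinarith
  · have h3 := h2.trans (NilpRing.G_le (by omega))
    have h4 : 2 * (2 ^ (n - 1)) ^ 2 < n.factorial := by
      clear h1 h2 h3 hN hcard e hn N
      induction n, h8 using Nat.le_induction with
      | base => decide
      | succ n hn ih =>
        rw [Nat.factorial_succ]
        have h5 : 2 * (2 ^ (n + 1 - 1)) ^ 2 = 4 * (2 * (2 ^ (n - 1)) ^ 2) := by
          rw [show n + 1 - 1 = n - 1 + 1 by omega, pow_succ]; ring
        rw [h5]
        exact lt_of_lt_of_le (Nat.mul_lt_mul_of_pos_left ih (by norm_num))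
          (Nat.mul_le_mul_right _ (by omega))
    have h5 : 2 * Nat.card ↥N ^ 2 ≤ 2 * (2 ^ (n - 1)) ^ 2 := Nat.mul_le_mul_left _ (Nat.pow_le_pow_left h3 2)
    omega

theorem small_PSL2_four {F : Type*} [Field F] [Fintype F] (hF : Fintype.card F = 4) :
    NSm.Small (Matrix.ProjectiveSpecialLinearGroup (Fin 2) F) := by
  obtain ⟨e⟩ := S0252.result hF
  exact (small_alt (n := 5) le_rfl).congr e.symm

theorem small_PSL2_five {F : Type*} [Field F] [Fintype F] (hF : Fintype.card F = 5) :
    NSm.Small (Matrix.ProjectiveSpecialLinearGroup (Fin 2) F) := by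
  obtain ⟨e⟩ := S0253.result hF
  exact (small_alt (n := 5) le_rfl).congr e.symm

theorem small_PSL2_nine {F : Type*} [Field F] [Fintype F] (hF : Fintype.card F = 9) :
    NSm.Small (Matrix.ProjectiveSpecialLinearGroup (Fin 2) F) := by
  obtain ⟨e⟩ := S0254.result hF
  exact (small_alt (n := 6) (by norm_num)).congr e.symm

end Cfsg.Agent.H972.AltSmall
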