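import Mathlib
import Cfsg.Agent.H972.NilpRing
import Cfsg.Agent.Lib.NormalAbelian

/-!
# Orders of nilpotent `p'`-subgroups of `GL_n(q)` (helper972)
-/

set_option autoImplicit false

namespace Cfsg.Agent.H972.NilpGL

open Subgroup

universe u v

/-! ### a vector with zero annihilator -/

section Vec

variable {E V : Type*} [CommRing E] [Finite E] [AddCommGroup V] [Module E V] {Q : ℕ}

/-- a finite commutative ring with `x ^ Q = x` acting faithfully has a vector with zero annihilator -/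
theorem exists_vec (hQ : 2 ≤ Q) (hx : ∀ x : E, x ^ Q = x) (hf : ∀ x : E, (∀ v : V, x • v = 0) → x = 0) :
    ∃ v : V, ∀ x : E, x • v = 0 → x = 0 := by
  classical
  let ann : V → Set E := fun v => {x | x • v = 0}
  have hfin : ∀ v, (ann v).Finite := fun v => Set.toFinite _
  obtain ⟨v, hv⟩ : ∃ v : V, ∀ w : V, (ann v).ncard ≤ (ann w).ncard := by
    have : WellFounded (fun a b : ℕ => a < b) := wellFounded_lt
    refine ⟨Function.argmin (fun v : V => (ann v).ncard), fun w => ?_⟩
    exact Function.argmin_le (fun v : V => (ann v).ncard) w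
  refine ⟨v, ?_⟩
  by_contra hcon
  push Not at hcon
  obtain ⟨x, hxv, hx0⟩ := hcon
  -- the idempotent
  have hQ1 : x ^ (Q - 1) * x = x := by
    rw [← pow_succ, Nat.sub_add_cancel (by omega), hx]
  obtain ⟨e, he0, hee, hev⟩ : ∃ e : E, e ≠ 0 ∧ e * e = e ∧ e • v = 0 := by
    refine ⟨x ^ (Q - 1), fun h => hx0 (by rw [← hQ1, h, zero_mul]), ?_, ?_⟩
    · have h2 : x ^ (Q - 1) = x ^ (Q - 2) * x := by
        rw [← pow_succ]; congr 1; omega
      calc x ^ (Q - 1) * x ^ (Q - 1) = x ^ (Q - 1) * (x ^ (Q - 2) * x) := by rw [← h2]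
        _ = x ^ (Q - 2) * (x ^ (Q - 1) * x) := by ring
        _ = x ^ (Q - 2) * x := by rw [hQ1]
        _ = _ := h2.symm
    · have h2 : x ^ (Q - 1) = x ^ (Q - 2) * x := by
        rw [← pow_succ]; congr 1; omega
      rw [h2, mul_smul, hxv, smul_zero]
  obtain ⟨w, hw⟩ : ∃ w : V, e • w ≠ 0 := by
    by_contra h
    push Not at h
    exact he0 (hf e h)
  have hlt : ann (v + e • w) ⊂ ann v := by
    constructor
    · intro y hy
      have hy' : y • (v + e • w) = 0 := hy
      have h1 : y • e • w = 0 := by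
        have h2 : e • y • (v + e • w) = 0 := by rw [hy', smul_zero]
        rw [smul_smul, mul_comm, mul_smul, smul_add, hev, zero_add, smul_smul e e w, hee] at h2
        exact h2
      change y • v = 0
      rw [smul_add, h1, add_zero] at hy'
      exact hy'
    · intro h
      have h1 : e ∈ ann (v + e • w) := h hev
      have h2 : e • (v + e • w) = 0 := h1
      rw [smul_add, hev, zero_add, smul_smul, hee] at h2
      exact hw h2
  exact absurd (hv (v + e • w)) (not_le.2 (Set.ncard_lt_ncard hlt (hfin v)))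

theorem card_le_card (hQ : 2 ≤ Q) (hx : ∀ x : E, x ^ Q = x) (hf : ∀ x : E, (∀ v : V, x • v = 0) → x = 0) [Finite V] :
    Nat.card E ≤ Nat.card V := by
  obtain ⟨v, hv⟩ := exists_vec hQ hx hf
  refine Nat.card_le_card_of_injective (fun x : E => x • v) fun x y hxy => ?_
  have h1 : (x - y) • v = 0 := by
    rw [sub_smul]
    exact sub_eq_zero.2 hxy
  exact sub_eq_zero.1 (hv _ h1)

end Vec

/-! ### the algebra generated by an abelian normal subgroup -/

section Alg

variable {F A : Type*} [Field F] [Ring A] [Algebra F A] {N : Type*} [Group N] (f : N →* A) (B : Subgroup N)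

/-- the subalgebra generated by `B` -/
def alg : Subalgebra F A := Algebra.adjoin F (f '' B)

theorem mem_alg {b : N} (hb : b ∈ B) : f b ∈ alg (F := F) f B := Algebra.subset_adjoin ⟨b, hb, rfl⟩

theorem conj_mem [hB : B.Normal] (g : N) {x : A} (hx : x ∈ alg (F := F) f B) : f g * x * f g⁻¹ ∈ alg (F := F) f B := by
  have hg : f g⁻¹ * f g = 1 := by rw [← map_mul, inv_mul_cancel, map_one]
  have hg' : f g * f g⁻¹ = 1 := by rw [← map_mul, mul_inv_cancel, map_one]
  unfold alg at hx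
  induction hx using Algebra.adjoin_induction with
  | mem x hx =>
    obtain ⟨b, hb, rfl⟩ := hx
    rw [← map_mul, ← map_mul]
    exact mem_alg f B (hB.conj_mem b hb g)
  | algebraMap r =>
    rw [← Algebra.commutes, mul_assoc, hg', mul_one]
    exact Subalgebra.algebraMap_mem _ r
  | add x y _ _ hx hy =>
    rw [mul_add, add_mul]
    exact Subalgebra.add_mem _ hx hy
  | mul x y _ _ hx hy =>
    have : f g * (x * y) * f g⁻¹ = (f g * x * f g⁻¹) * (f g * y * f g⁻¹) := by
      calc f g * (x * y) * f g⁻¹ = f g * x * 1 * y * f g⁻¹ := by noncomm_ring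
        _ = f g * x * (f g⁻¹ * f g) * y * f g⁻¹ := by rw [hg]
        _ = _ := by noncomm_ring
    rw [this]
    exact Subalgebra.mul_mem _ hx hy

/-- conjugation -/
def conjE [B.Normal] (g : N) : ↥(alg (F := F) f B) ≃ₐ[F] ↥(alg (F := F) f B) where
  toFun x := ⟨f g * x * f g⁻¹, conj_mem f B g x.2⟩
  invFun x := ⟨f g⁻¹ * x * f g, by
    have := conj_mem f B g⁻¹ x.2
    rwa [inv_inv] at this⟩
  left_inv x := by
    have hg : f g⁻¹ * f g = 1 := by rw [← map_mul, inv_mul_cancel, map_one]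
    apply Subtype.ext
    change f g⁻¹ * (f g * (x : A) * f g⁻¹) * f g = x
    calc f g⁻¹ * (f g * (x : A) * f g⁻¹) * f g = (f g⁻¹ * f g) * (x : A) * (f g⁻¹ * f g) := by noncomm_ring
      _ = x := by rw [hg, one_mul, mul_one]
  right_inv x := by
    have hg' : f g * f g⁻¹ = 1 := by rw [← map_mul, mul_inv_cancel, map_one]
    apply Subtype.ext
    change f g * (f g⁻¹ * (x : A) * f g) * f g⁻¹ = x
    calc f g * (f g⁻¹ * (x : A) * f g) * f g⁻¹ = (f g * f g⁻¹) * (x : A) * (f g * f g⁻¹) := by noncomm_ring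
      _ = x := by rw [hg', one_mul, mul_one]
  map_mul' x y := by
    have hg : f g⁻¹ * f g = 1 := by rw [← map_mul, inv_mul_cancel, map_one]
    apply Subtype.ext
    change f g * ((x : A) * y) * f g⁻¹ = (f g * x * f g⁻¹) * (f g * y * f g⁻¹)
    calc f g * ((x : A) * y) * f g⁻¹ = f g * x * 1 * y * f g⁻¹ := by noncomm_ring
      _ = f g * x * (f g⁻¹ * f g) * y * f g⁻¹ := by rw [hg]
      _ = _ := by noncomm_ring
  map_add' x y := by
    apply Subtype.ext
    change f g * ((x : A) + y) * f g⁻¹ = f g * x * f g⁻¹ + f g * y * f g⁻¹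
    rw [mul_add, add_mul]
  commutes' r := by
    have hg' : f g * f g⁻¹ = 1 := by rw [← map_mul, mul_inv_cancel, map_one]
    apply Subtype.ext
    change f g * (algebraMap F A r) * f g⁻¹ = algebraMap F A r
    rw [← Algebra.commutes, mul_assoc, hg', mul_one]

theorem conjE_apply [B.Normal] (g : N) (x : ↥(alg (F := F) f B)) :
    ((conjE f B g x : ↥(alg (F := F) f B)) : A) = f g * x * f g⁻¹ := rfl

/-- conjugation -/
def conjHom [B.Normal] : N →* (↥(alg (F := F) f B) ≃ₐ[F] ↥(alg (F := F) f B)) where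
  toFun := conjE f B
  map_one' := by
    ext x
    rw [conjE_apply, inv_one, map_one, one_mul, mul_one]
    rfl
  map_mul' g h := by
    ext x
    change f (g * h) * (x : A) * f (g * h)⁻¹ = f g * (f h * x * f h⁻¹) * f g⁻¹
    rw [mul_inv_rev, map_mul, map_mul]
    noncomm_ring

theorem ker_conjHom [B.Normal] (hf : Function.Injective f) (hB : ∀ g : N, (∀ b ∈ B, b * g = g * b) → g ∈ B) :
    (conjHom (F := F) f B).ker ≤ B := by
  intro g hg
  apply hB
  intro b hb
  have h1 := congrArg (fun σ : ↥(alg (F := F) f B) ≃ₐ[F] ↥(alg (F := F) f B) =>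
    ((σ ⟨f b, mem_alg f B hb⟩ : ↥(alg (F := F) f B)) : A)) (MonoidHom.mem_ker.1 hg)
  have h2 : f g * f b * f g⁻¹ = f b := h1
  rw [← map_mul, ← map_mul] at h2
  have h3 := hf h2
  have h4 : b * g = g * b := by
    calc b * g = (g * b * g⁻¹) * g := by rw [h3]
      _ = g * b := by group
  exact h4

end Alg

section Main

variable {F : Type u} [Field F] [Finite F] {V : Type v} [AddCommGroup V] [Module F V] [Finite V] [Nontrivial V]
  {N : Type*} [Group N] [Finite N]

omit [Finite V] in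
/-- the algebra generated by an abelian `p'`-group consists of elements fixed by a power of Frobenius -/
theorem exists_pow (f : N →* Module.End F V) (B : Subgroup N) (hB : ∀ a ∈ B, ∀ b ∈ B, a * b = b * a)
    {p : ℕ} [hp : Fact p.Prime] [CharP F p] (hpN : ¬ p ∣ Nat.card N) :
    ∃ Q, 2 ≤ Q ∧ ∀ x ∈ alg (F := F) f B, x ^ Q = x := by
  have hcomm : ∀ a ∈ f '' (B : Set N), ∀ b ∈ f '' (B : Set N), a * b = b * a := by
    rintro _ ⟨a, ha, rfl⟩ _ ⟨b, hb, rfl⟩
    rw [← map_mul, ← map_mul, hB a ha b hb]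
  have hC := Algebra.isMulCommutative_adjoin F hcomm
  have hcE : ∀ x ∈ alg (F := F) f B, ∀ y ∈ alg (F := F) f B, Commute x y := fun x hx y hy =>
    congrArg Subtype.val (hC.is_comm.comm (⟨x, hx⟩ : ↥(Algebra.adjoin F (f '' (B : Set N)))) ⟨y, hy⟩)
  have hchar : CharP (Module.End F V) p :=
    charP_of_injective_algebraMap (FaithfulSMul.algebraMap_injective F (Module.End F V)) p
  have : Fintype F := Fintype.ofFinite F
  obtain ⟨a, hpa, ha⟩ := FiniteField.card F p
  have hcop : (Fintype.card F).Coprime (Nat.card N) := by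
    rw [ha]
    exact Nat.Coprime.pow_left _ ((Nat.Prime.coprime_iff_not_dvd hp.1).2 hpN)
  have hmod := Nat.ModEq.pow_totient hcop
  have htot : 0 < (Nat.card N).totient := Nat.totient_pos.2 Nat.card_pos
  refine ⟨Fintype.card F ^ (Nat.card N).totient, ?_, ?_⟩
  · calc 2 ≤ Fintype.card F := Fintype.one_lt_card
      _ ≤ _ := Nat.le_self_pow htot.ne' _
  · have hQ : Fintype.card F ^ (Nat.card N).totient = p ^ ((a : ℕ) * (Nat.card N).totient) := by
      rw [ha, pow_mul]
    intro x hx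
    unfold alg at hx
    induction hx using Algebra.adjoin_induction with
    | mem x hx =>
      obtain ⟨b, hb, rfl⟩ := hx
      rw [← map_pow]
      congr 1
      have h1 : b ^ (Fintype.card F ^ (Nat.card N).totient) = b ^ 1 := by
        rw [pow_eq_pow_iff_modEq]
        exact hmod.of_dvd (orderOf_dvd_natCard b)
      rw [h1, pow_one]
    | algebraMap r =>
      rw [← map_pow, FiniteField.pow_card_pow]
    | add x y hx' hy' hx hy =>
      rw [hQ] at hx hy ⊢
      rw [add_pow_expChar_pow_of_commute _ _ (hcE x hx' y hy'), hx, hy]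
    | mul x y hx' hy' hx hy =>
      rw [(hcE x hx' y hy').mul_pow, hx, hy]

open scoped IsMulCommutative in
/-- **The structure bound.** A nilpotent `p'`-subgroup of `GL_n(q)` has order at most
`2 ^ (t - 1) * ∏ k_i (q ^ k_i - 1)` for some `k_1, …, k_t ≥ 1` with `∑ k_i ≤ n`. -/
theorem exists_blocks [hN : Group.IsNilpotent N] (f : N →* Module.End F V) (hf : Function.Injective f)
    {p : ℕ} [hp : Fact p.Prime] [CharP F p] (hpN : ¬ p ∣ Nat.card N) :
    ∃ (ι : Type v) (_ : Fintype ι) (_ : Nonempty ι) (k : ι → ℕ), (∀ i, 1 ≤ k i) ∧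
      ∑ i, k i ≤ Module.finrank F V ∧
      Nat.card N ≤ 2 ^ (Fintype.card ι - 1) * ∏ i, k i * (Nat.card F ^ k i - 1) := by
  classical
  obtain ⟨B, hBn, hBc, hBC⟩ := Lib.NormalAbelian.exists_normal_abelian_selfCentralizing (G := N)
  have hB : ∀ a ∈ B, ∀ b ∈ B, a * b = b * a := fun a ha b hb =>
    congrArg Subtype.val (hBc.is_comm.comm (⟨a, ha⟩ : ↥B) ⟨b, hb⟩)
  have hcomm : ∀ a ∈ f '' (B : Set N), ∀ b ∈ f '' (B : Set N), a * b = b * a := by
    rintro _ ⟨a, ha, rfl⟩ _ ⟨b, hb, rfl⟩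
    rw [← map_mul, ← map_mul, hB a ha b hb]
  have hC : IsMulCommutative ↥(alg (F := F) f B) := Algebra.isMulCommutative_adjoin F hcomm
  obtain ⟨Q, hQ2, hQ⟩ := exists_pow (F := F) f B hB hpN
  have hQ' : ∀ x : ↥(alg (F := F) f B), x ^ Q = x := fun x => Subtype.ext (hQ x.1 x.2)
  have hfinA : Finite (Module.End F V) := Finite.of_injective (fun x : Module.End F V => (x : V → V)) DFunLike.coe_injective
  have hfinE : Finite ↥(alg (F := F) f B) := inferInstance
  have hred : IsReduced ↥(alg (F := F) f B) := by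
    constructor
    rintro x ⟨m, hm⟩
    have h1 : ∀ j : ℕ, x ^ (Q ^ j) = x := by
      intro j
      induction j with
      | zero => rw [pow_zero, pow_one]
      | succ j ih => rw [pow_succ, pow_mul, ih, hQ']
    have h2 : m ≤ Q ^ m := (Nat.lt_pow_self (by omega)).le
    rw [← h1 m, ← Nat.sub_add_cancel h2, pow_add, hm, mul_zero]
  have hnt : Nontrivial ↥(alg (F := F) f B) := inferInstance
  have hfinM : Finite (MaximalSpectrum ↥(alg (F := F) f B)) := inferInstance
  have : Fintype (MaximalSpectrum ↥(alg (F := F) f B)) := Fintype.ofFinite _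
  have hne : Nonempty (MaximalSpectrum ↥(alg (F := F) f B)) := inferInstance
  have h1 := NilpRing.index_le (conjHom (F := F) f B)
    (fun I => Module.finrank F (↥(alg (F := F) f B) ⧸ I.asIdeal)) (fun I => NilpRing.ncard_le _ I)
  have hfinQ : ∀ I : MaximalSpectrum ↥(alg (F := F) f B), Finite (↥(alg (F := F) f B) ⧸ I.asIdeal) := fun I =>
    Finite.of_surjective _ Ideal.Quotient.mk_surjective
  have hcardQ : ∀ I : MaximalSpectrum ↥(alg (F := F) f B), Nat.card (↥(alg (F := F) f B) ⧸ I.asIdeal) =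
      Nat.card F ^ Module.finrank F (↥(alg (F := F) f B) ⧸ I.asIdeal) := fun I => Module.natCard_eq_pow_finrank
  have hntQ : ∀ I : MaximalSpectrum ↥(alg (F := F) f B), Nontrivial (↥(alg (F := F) f B) ⧸ I.asIdeal) := fun I =>
    Ideal.Quotient.nontrivial_iff.2 I.isMaximal.ne_top
  -- `|E| = ∏ |E / I|`
  have hcardE : Nat.card ↥(alg (F := F) f B) = Nat.card F ^ ∑ I : MaximalSpectrum ↥(alg (F := F) f B),
      Module.finrank F (↥(alg (F := F) f B) ⧸ I.asIdeal) := by
    rw [Nat.card_congr (IsArtinianRing.equivPi ↥(alg (F := F) f B)).toEquiv, Nat.card_pi, ← Finset.prod_pow_eq_pow_sum]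
    exact Finset.prod_congr rfl fun I _ => hcardQ I
  have hcardV : Nat.card V = Nat.card F ^ Module.finrank F V := Module.natCard_eq_pow_finrank
  have hq : 1 < Nat.card F := Finite.one_lt_card
  refine ⟨MaximalSpectrum ↥(alg (F := F) f B), inferInstance, hne,
    fun I => Module.finrank F (↥(alg (F := F) f B) ⧸ I.asIdeal), ?_, ?_, ?_⟩
  · intro I
    rcases Nat.eq_zero_or_pos (Module.finrank F (↥(alg (F := F) f B) ⧸ I.asIdeal)) with h0 | h0
    swap
    · exact h0
    have h2 := hcardQ I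
    rw [h0, pow_zero] at h2
    have h3 : 1 < Nat.card (↥(alg (F := F) f B) ⧸ I.asIdeal) := Finite.one_lt_card
    omega
  · have h2 : Nat.card ↥(alg (F := F) f B) ≤ Nat.card V := by
      have hsm : ∀ (x : ↥(alg (F := F) f B)) (v : V), x • v = (x : Module.End F V) v := fun _ _ => rfl
      refine card_le_card hQ2 hQ' fun x hx => ?_
      apply Subtype.ext
      apply LinearMap.ext
      intro v
      rw [← hsm, hx v]
      rfl
    rw [hcardE, hcardV] at h2
    exact (Nat.pow_le_pow_iff_right hq).1 h2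
  · have hBcard : Nat.card ↥B ≤ ∏ I : MaximalSpectrum ↥(alg (F := F) f B),
        (Nat.card F ^ Module.finrank F (↥(alg (F := F) f B) ⧸ I.asIdeal) - 1) := by
      have hunit : ∀ (b : N) (hb : b ∈ B) (I : MaximalSpectrum ↥(alg (F := F) f B)),
          Ideal.Quotient.mk I.asIdeal (⟨f b, mem_alg f B hb⟩ : ↥(alg (F := F) f B)) ≠ 0 := by
        intro b hb I h0
        have h2 : (⟨f b, mem_alg f B hb⟩ : ↥(alg (F := F) f B)) * ⟨f b⁻¹, mem_alg f B (B.inv_mem hb)⟩ = 1 := by
          apply Subtype.ext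
          change f b * f b⁻¹ = 1
          rw [← map_mul, mul_inv_cancel, map_one]
        have h3 := congrArg (Ideal.Quotient.mk I.asIdeal) h2
        rw [map_mul, h0, zero_mul, map_one] at h3
        exact zero_ne_one h3
      let Φ : ↥B → ∀ I : MaximalSpectrum ↥(alg (F := F) f B), {x : ↥(alg (F := F) f B) ⧸ I.asIdeal // x ≠ 0} :=
        fun b I => ⟨_, hunit b b.2 I⟩
      have hΦ : Function.Injective Φ := by
        intro a b hab
        apply Subtype.ext
        apply hf
        have h2 : (⟨f a, mem_alg f B a.2⟩ : ↥(alg (F := F) f B)) = ⟨f b, mem_alg f B b.2⟩ := by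
          apply (IsArtinianRing.equivPi ↥(alg (F := F) f B)).injective
          funext I
          rw [IsArtinianRing.equivPi_apply, IsArtinianRing.equivPi_apply]
          exact congrArg Subtype.val (congrFun hab I)
        exact congrArg Subtype.val h2
      refine (Nat.card_le_card_of_injective Φ hΦ).trans ?_
      rw [Nat.card_pi]
      refine Finset.prod_le_prod' fun I _ => ?_
      rw [← hcardQ I]
      have : Fintype (↥(alg (F := F) f B) ⧸ I.asIdeal) := Fintype.ofFinite _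
      rw [Nat.card_eq_fintype_card, Nat.card_eq_fintype_card]
      exact (Fintype.card_subtype_compl (fun x : ↥(alg (F := F) f B) ⧸ I.asIdeal => x = 0)).le.trans (by simp)
    have hker : (conjHom (F := F) f B).ker ≤ B := by
      refine ker_conjHom f B hf fun g hg => ?_
      rw [← hBC, mem_centralizer_iff]
      exact fun b hb => hg b hb
    have hidx : B.index ≤ (conjHom (F := F) f B).ker.index :=
      Nat.le_of_dvd (Nat.pos_of_ne_zero Subgroup.index_ne_zero_of_finite) (Subgroup.index_dvd_of_le hker)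
    rw [← B.card_mul_index, Finset.prod_mul_distrib]
    rw [Nat.card_eq_fintype_card (α := MaximalSpectrum _)] at h1
    calc Nat.card ↥B * B.index ≤ _ := Nat.mul_le_mul hBcard (hidx.trans h1)
      _ = _ := by ring

/-- the block bound with arbitrary constants -/
theorem card_le_of_const [hN : Group.IsNilpotent N] (f : N →* Module.End F V) (hf : Function.Injective f)
    {p : ℕ} [hp : Fact p.Prime] [CharP F p] (hpN : ¬ p ∣ Nat.card N) {c d : ℕ} (hdc : d ≤ c)
    (hcd : ∀ k, 1 ≤ k → d ^ k * (2 * (k * (Nat.card F ^ k - 1))) ^ 2 ≤ c ^ k) :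
    d ^ Module.finrank F V * (2 * Nat.card N) ^ 2 ≤ c ^ Module.finrank F V := by
  obtain ⟨ι, _, hι, k, hk1, hks, hN⟩ := exists_blocks f hf hpN
  have ht : 2 * 2 ^ (Fintype.card ι - 1) = ∏ _i : ι, 2 := by
    rw [Finset.prod_const, Finset.card_univ, ← pow_succ']
    have := Fintype.card_pos (α := ι)
    congr 1
    omega
  have h1 : 2 * Nat.card N ≤ ∏ i, 2 * (k i * (Nat.card F ^ k i - 1)) := by
    rw [Finset.prod_mul_distrib, ← ht, mul_assoc]
    exact Nat.mul_le_mul_left 2 hN
  have h2 : d ^ (∑ i, k i) * (2 * Nat.card N) ^ 2 ≤ c ^ (∑ i, k i) := by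
    calc d ^ (∑ i, k i) * (2 * Nat.card N) ^ 2 ≤ d ^ (∑ i, k i) * (∏ i, 2 * (k i * (Nat.card F ^ k i - 1))) ^ 2 :=
          Nat.mul_le_mul_left _ (Nat.pow_le_pow_left h1 2)
      _ = ∏ i, (d ^ k i * (2 * (k i * (Nat.card F ^ k i - 1))) ^ 2) := by
          rw [← Finset.prod_pow_eq_pow_sum, ← Finset.prod_pow, ← Finset.prod_mul_distrib]
      _ ≤ ∏ i, c ^ k i := Finset.prod_le_prod' fun i _ => hcd _ (hk1 i)
      _ = _ := Finset.prod_pow_eq_pow_sum _ _ _
  obtain ⟨m, hm⟩ := Nat.exists_eq_add_of_le hks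
  rw [hm, pow_add, pow_add]
  calc d ^ (∑ i, k i) * d ^ m * (2 * Nat.card N) ^ 2 = d ^ m * (d ^ (∑ i, k i) * (2 * Nat.card N) ^ 2) := by ring
    _ ≤ c ^ m * c ^ (∑ i, k i) := Nat.mul_le_mul (Nat.pow_le_pow_left hdc m) h2
    _ = _ := mul_comm _ _

/-- **Weak bound**: a nilpotent `p'`-group of automorphisms of `V` satisfies `2 |N| ≤ |V| ^ 2`. -/
theorem two_mul_card_le [hN : Group.IsNilpotent N] (f : N →* Module.End F V) (hf : Function.Injective f)
    {p : ℕ} [hp : Fact p.Prime] [CharP F p] (hpN : ¬ p ∣ Nat.card N) : 2 * Nat.card N ≤ Nat.card V ^ 2 := by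
  have h1 := card_le_of_const f hf hpN (c := Nat.card F ^ 4) (d := 1) (Nat.one_le_iff_ne_zero.2
    (pow_ne_zero _ Nat.card_pos.ne')) (by
    intro k hk
    rw [one_pow, one_mul, ← pow_mul, show 4 * k = 2 * k * 2 by ring, pow_mul]
    refine Nat.pow_le_pow_left ?_ 2
    have hq : 2 ≤ Nat.card F := Finite.one_lt_card
    have h2 : 2 * k ≤ Nat.card F ^ k := by
      have h3 : 2 * k ≤ 2 ^ k := by
        induction k, hk using Nat.le_induction with
        | base => norm_num
        | succ n hn ih => rw [pow_succ]; omega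
      exact h3.trans (Nat.pow_le_pow_left hq k)
    calc 2 * (k * (Nat.card F ^ k - 1)) = 2 * k * (Nat.card F ^ k - 1) := by ring
      _ ≤ Nat.card F ^ k * Nat.card F ^ k := Nat.mul_le_mul h2 (Nat.sub_le _ _)
      _ = _ := by rw [← pow_add]; congr 1; ring)
  rw [one_pow, one_mul, ← pow_mul, show 4 * Module.finrank F V = Module.finrank F V * 2 * 2 by ring, pow_mul, pow_mul,
    ← Module.natCard_eq_pow_finrank] at h1
  exact (Nat.pow_le_pow_iff_left two_ne_zero).1 h1

theorem aux_q {k : ℕ} (hk : 3 ≤ k) : 4 * k ^ 2 * 9 ^ k ≤ 32 ^ k := by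
  induction k, hk using Nat.le_induction with
  | base => norm_num
  | succ n hn ih =>
    have h1 : 9 * (n + 1) ^ 2 ≤ 32 * n ^ 2 := by nlinarith
    calc 4 * (n + 1) ^ 2 * 9 ^ (n + 1) = 4 * (9 * (n + 1) ^ 2) * 9 ^ n := by ring
      _ ≤ 4 * (32 * n ^ 2) * 9 ^ n := by gcongr
      _ = 32 * (4 * n ^ 2 * 9 ^ n) := by ring
      _ ≤ 32 * 32 ^ n := Nat.mul_le_mul_left _ ih
      _ = _ := by ring

theorem block_q {q k : ℕ} (hq : 3 ≤ q) (hk : 1 ≤ k) : (2 * (k * (q ^ k - 1))) ^ 2 ≤ (4 * (q ^ 2 - 1)) ^ k := by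
  rcases Nat.lt_or_ge k 3 with h | h
  · obtain ⟨r, rfl⟩ := Nat.exists_eq_add_of_le hq
    have h1 : (3 + r) ^ 1 - 1 = r + 2 := by rw [pow_one]; omega
    have h2 : (3 + r) ^ 2 - 1 = r ^ 2 + 6 * r + 8 := by
      have : (3 + r) ^ 2 = r ^ 2 + 6 * r + 8 + 1 := by ring
      omega
    interval_cases k
    · rw [h1, h2]
      nlinarith
    · rw [h2]
      nlinarith
  · have h1 : 8 * q ^ 2 ≤ 9 * (q ^ 2 - 1) := by
      have : 9 ≤ q ^ 2 := by nlinarith
      omega
    have h2 : 8 ^ k * q ^ (2 * k) ≤ 9 ^ k * (q ^ 2 - 1) ^ k := by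
      rw [pow_mul, ← mul_pow, ← mul_pow]
      exact Nat.pow_le_pow_left h1 k
    have h3 := aux_q h
    have h4 : 8 ^ k * (2 * (k * (q ^ k - 1))) ^ 2 ≤ 8 ^ k * (4 * (q ^ 2 - 1)) ^ k := by
      calc 8 ^ k * (2 * (k * (q ^ k - 1))) ^ 2 ≤ 8 ^ k * (2 * (k * q ^ k)) ^ 2 := by gcongr; exact Nat.sub_le _ _
        _ = 4 * k ^ 2 * (8 ^ k * q ^ (2 * k)) := by ring
        _ ≤ 4 * k ^ 2 * (9 ^ k * (q ^ 2 - 1) ^ k) := Nat.mul_le_mul_left _ h2
        _ = 4 * k ^ 2 * 9 ^ k * (q ^ 2 - 1) ^ k := by ring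
        _ ≤ 32 ^ k * (q ^ 2 - 1) ^ k := Nat.mul_le_mul_right _ h3
        _ = 8 ^ k * (4 * (q ^ 2 - 1)) ^ k := by rw [show 32 = 8 * 4 by norm_num, mul_pow, mul_pow]; ring
    exact Nat.le_of_mul_le_mul_left h4 (by positivity)

theorem block_two {k : ℕ} (hk : 1 ≤ k) : 10 ^ k * (2 * (k * (2 ^ k - 1))) ^ 2 ≤ 121 ^ k := by
  rcases Nat.lt_or_ge k 4 with h | h
  · interval_cases k <;> norm_num
  · have h1 : 4 * k ^ 2 * 40 ^ k ≤ 121 ^ k := by
      induction k, h using Nat.le_induction with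
      | base => norm_num
      | succ n hn ih =>
        have h1 : 40 * (n + 1) ^ 2 ≤ 121 * n ^ 2 := by nlinarith
        calc 4 * (n + 1) ^ 2 * 40 ^ (n + 1) = 4 * (40 * (n + 1) ^ 2) * 40 ^ n := by ring
          _ ≤ 4 * (121 * n ^ 2) * 40 ^ n := by gcongr
          _ = 121 * (4 * n ^ 2 * 40 ^ n) := by ring
          _ ≤ 121 * 121 ^ n := Nat.mul_le_mul_left _ (ih (by omega))
          _ = _ := by ring
    calc 10 ^ k * (2 * (k * (2 ^ k - 1))) ^ 2 ≤ 10 ^ k * (2 * (k * 2 ^ k)) ^ 2 := by gcongr; exact Nat.sub_le _ _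
      _ = 4 * k ^ 2 * (10 * 2 ^ 2) ^ k := by rw [mul_pow 10, ← pow_mul 2 2 k]; ring
      _ = 4 * k ^ 2 * 40 ^ k := by norm_num
      _ ≤ _ := h1

/-- **Strong bound**, `q ≥ 3` -/
theorem sq_le [hN : Group.IsNilpotent N] (f : N →* Module.End F V) (hf : Function.Injective f)
    {p : ℕ} [hp : Fact p.Prime] [CharP F p] (hpN : ¬ p ∣ Nat.card N) (hq : 3 ≤ Nat.card F) :
    (2 * Nat.card N) ^ 2 ≤ (4 * (Nat.card F ^ 2 - 1)) ^ Module.finrank F V := by
  have h9 : 9 ≤ Nat.card F ^ 2 := by nlinarith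
  have h1 := card_le_of_const f hf hpN (c := 4 * (Nat.card F ^ 2 - 1)) (d := 1) (by omega)
    (fun k hk => by rw [one_pow, one_mul]; exact block_q hq hk)
  rwa [one_pow, one_mul] at h1

/-- **Strong bound**, `q = 2` -/
theorem sq_le_two [hN : Group.IsNilpotent N] (f : N →* Module.End F V) (hf : Function.Injective f)
    {p : ℕ} [hp : Fact p.Prime] [CharP F p] (hpN : ¬ p ∣ Nat.card N) (hq : Nat.card F = 2) :
    10 ^ Module.finrank F V * (2 * Nat.card N) ^ 2 ≤ 121 ^ Module.finrank F V :=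
  card_le_of_const f hf hpN (by norm_num) (fun k hk => by rw [hq]; exact block_two hk)

end Main

end Cfsg.Agent.H972.NilpGL
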