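import Mathlib
import Cfsg.Agent.H972.NilpGL

/-!
# Nilpotent `p'`-groups acting on `p`-groups (helper972)

`index_lt` : if a nilpotent `p'`-group `A` acts non-trivially on a finite `p`-group `Q`, then
`|A : C_A(Q)| < |Q : C_Q(A)| ^ 2`.
-/

set_option autoImplicit false

namespace Cfsg.Agent.H972.NilpAct

open Subgroup

section Basic

variable {A Q : Type*} [Group A] [Group Q]

/-- the fixed points -/
def fixed (φ : A →* MulAut Q) : Subgroup Q where
  carrier := {x | ∀ a, φ a x = x}
  one_mem' a := map_one _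
  mul_mem' {x y} hx hy a := by rw [map_mul, hx a, hy a]
  inv_mem' {x} hx a := by rw [map_inv, hx a]

theorem mem_fixed {φ : A →* MulAut Q} {x : Q} : x ∈ fixed φ ↔ ∀ a, φ a x = x := Iff.rfl

end Basic

/-! ### the abelian case -/

section Abelian

variable {A : Type*} [Group A] [Finite A] {p : ℕ} [hp : Fact p.Prime] {M : Type*} [AddCommGroup M] [Finite M]
  [Module (ZMod p) M]

/-- the additive form -/
theorem base_add [hA : Group.IsNilpotent A] (hpA : ¬ p ∣ Nat.card A) (ρ : A →* Module.End (ZMod p) M)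
    (hne : ∃ (a : A) (x : M), ρ a x ≠ x) (K : Subgroup A) (hK : ∀ a, a ∈ K ↔ ∀ x, ρ a x = x) (C : AddSubgroup M)
    (hC : ∀ x, x ∈ C ↔ ∀ a, ρ a x = x) : K.index < C.index ^ 2 := by
  classical
  have : Fintype A := Fintype.ofFinite A
  let S : M →ₗ[ZMod p] M := ∑ a : A, (ρ a : M →ₗ[ZMod p] M)
  have hS : ∀ x, S x = ∑ a : A, ρ a x := fun x => by simp [S]
  have hn : (Nat.card A : ZMod p) ≠ 0 := by
    intro h
    exact hpA ((ZMod.natCast_eq_zero_iff _ _).1 h)
  have hSfix : ∀ x a, ρ a (S x) = S x := by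
    intro x a
    rw [hS, map_sum]
    have h1 : ∀ b : A, ρ a (ρ b x) = ρ (a * b) x := fun b => by rw [map_mul]; rfl
    simp only [h1]
    exact Fintype.sum_equiv (Equiv.mulLeft a) _ _ fun b => rfl
  have hSC : ∀ x, (∀ a, ρ a x = x) → S x = (Nat.card A : ZMod p) • x := by
    intro x hx
    rw [hS, Finset.sum_congr rfl fun a _ => hx a, Finset.sum_const, Finset.card_univ, ← Nat.card_eq_fintype_card,
      Nat.cast_smul_eq_nsmul]
  let W : Submodule (ZMod p) M := LinearMap.ker S
  have hSρ : ∀ a x, S (ρ a x) = S x := by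
    intro a x
    rw [hS, hS]
    have h1 : ∀ b : A, ρ b (ρ a x) = ρ (b * a) x := fun b => by rw [map_mul]; rfl
    simp only [h1]
    exact Fintype.sum_equiv (Equiv.mulRight a) _ _ fun b => rfl
  have hWinv : ∀ a, ∀ x ∈ W, ρ a x ∈ W := by
    intro a x hx
    rw [LinearMap.mem_ker] at hx ⊢
    rw [hSρ, hx]
  -- the index of the fixed points
  have hCrange : C = (LinearMap.range S).toAddSubgroup := by
    ext x
    rw [hC, Submodule.mem_toAddSubgroup, LinearMap.mem_range]
    constructor
    · intro hx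
      refine ⟨(Nat.card A : ZMod p)⁻¹ • x, ?_⟩
      rw [map_smul, hSC x hx, smul_smul, inv_mul_cancel₀ hn, one_smul]
    · rintro ⟨y, rfl⟩ a
      exact hSfix y a
  have hidx : C.index = Nat.card ↥W := by
    have h1 : Nat.card M = Nat.card ↥(LinearMap.range S) * Nat.card ↥W := by
      have h2 := Nat.card_congr (LinearMap.quotKerEquivRange S).toEquiv
      rw [← h2]
      exact (Submodule.card_eq_card_quotient_mul_card W).trans (mul_comm _ _)
    have h3 : Nat.card ↥C = Nat.card ↥(LinearMap.range S) := by rw [hCrange]; rfl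
    have h4 := C.card_mul_index
    rw [h3, h1] at h4
    exact Nat.eq_of_mul_eq_mul_left Nat.card_pos h4
  -- the action on `W`
  let g : A →* Module.End (ZMod p) ↥W :=
    { toFun := fun a => (ρ a).restrict (hWinv a)
      map_one' := by
        ext x
        change ρ 1 (x : M) = x
        rw [map_one]; rfl
      map_mul' := fun a b => by
        ext x
        change ρ (a * b) (x : M) = ρ a (ρ b x)
        rw [map_mul]; rfl }
  have hg : ∀ (a : A) (x : ↥W), ((g a x : ↥W) : M) = ρ a x := fun _ _ => rfl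
  have hker : g.toHomUnits.ker = K := by
    ext a
    rw [hK, MonoidHom.mem_ker]
    constructor
    · intro h x
      have h1 : ∀ y ∈ W, ρ a y = y := by
        intro y hy
        have h2 := congrArg (fun u : (Module.End (ZMod p) ↥W)ˣ => ((u : Module.End (ZMod p) ↥W) ⟨y, hy⟩ : ↥W)) h
        exact congrArg Subtype.val h2
      have h2 : (Nat.card A : ZMod p) • x - S x ∈ W := by
        rw [LinearMap.mem_ker, map_sub, map_smul, hSC (S x) (hSfix x), sub_self]
      have h3 := h1 _ h2
      rw [map_sub, map_smul, hSfix] at h3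
      have h4 := sub_left_inj.1 h3
      have h5 := congrArg (fun z => (Nat.card A : ZMod p)⁻¹ • z) h4
      simp only [smul_smul, inv_mul_cancel₀ hn, one_smul] at h5
      exact h5
    · intro h
      apply Units.ext
      ext x
      exact h x
  have hWnt : Nontrivial ↥W := by
    obtain ⟨a, x, hax⟩ := hne
    by_contra hcon
    rw [not_nontrivial_iff_subsingleton] at hcon
    have h2 : (Nat.card A : ZMod p) • x - S x ∈ W := by
      rw [LinearMap.mem_ker, map_sub, map_smul, hSC (S x) (hSfix x), sub_self]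
    have h3 : (Nat.card A : ZMod p) • x - S x = 0 :=
      congrArg Subtype.val (Subsingleton.elim (⟨_, h2⟩ : ↥W) 0)
    have h4 : x = (Nat.card A : ZMod p)⁻¹ • S x := by
      rw [← sub_eq_zero.1 h3, smul_smul, inv_mul_cancel₀ hn, one_smul]
    apply hax
    rw [h4, map_smul, hSfix]
  have hcardK : K.index = Nat.card ↥g.toHomUnits.range := by
    rw [← hker, Subgroup.index_ker]
  have hpN : ¬ p ∣ Nat.card ↥g.toHomUnits.range := by
    intro h
    rw [← hcardK] at h
    exact hpA (h.trans K.index_dvd_card)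
  have hnil : Group.IsNilpotent ↥g.toHomUnits.range :=
    Group.nilpotent_of_surjective g.toHomUnits.rangeRestrict g.toHomUnits.rangeRestrict_surjective
  have hfinE : Finite (Module.End (ZMod p) ↥W) :=
    Finite.of_injective (fun x : Module.End (ZMod p) ↥W => (x : ↥W → ↥W)) DFunLike.coe_injective
  have h1 := NilpGL.two_mul_card_le (F := ZMod p) (V := ↥W) (p := p)
    ((Units.coeHom (Module.End (ZMod p) ↥W)).comp g.toHomUnits.range.subtype)
    (Units.val_injective.comp g.toHomUnits.range.subtype_injective) hpN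
  rw [hcardK, hidx]
  have h2 : 0 < Nat.card ↥g.toHomUnits.range := Nat.card_pos
  omega

/-- the multiplicative form -/
theorem base [hA : Group.IsNilpotent A] (hpA : ¬ p ∣ Nat.card A) {V : Type*} [Group V] [Finite V]
    (hab : ∀ x y : V, x * y = y * x) (hexp : ∀ x : V, x ^ p = 1) (φ : A →* MulAut V) (hne : φ.ker ≠ ⊤) :
    φ.ker.index < (fixed φ).index ^ 2 := by
  let _ : CommGroup V := { ‹Group V› with mul_comm := hab }
  let _ : Module (ZMod p) (Additive V) := AddCommGroup.zmodModule (n := p) fun x => hexp (Additive.toMul x)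
  let ρ : A →* Module.End (ZMod p) (Additive V) :=
    { toFun := fun a => AddMonoidHom.toZModLinearMap p (MonoidHom.toAdditive (φ a).toMonoidHom)
      map_one' := by
        ext x
        change Additive.ofMul (φ 1 (Additive.toMul x)) = x
        rw [map_one]; rfl
      map_mul' := fun a b => by
        ext x
        change Additive.ofMul (φ (a * b) (Additive.toMul x)) = Additive.ofMul (φ a (φ b (Additive.toMul x)))
        rw [map_mul]; rfl }
  have hρ : ∀ (a : A) (x : Additive V), ρ a x = Additive.ofMul (φ a (Additive.toMul x)) := fun _ _ => rfl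
  have h1 := base_add hpA ρ ?_ φ.ker ?_ (Subgroup.toAddSubgroup (fixed φ)) ?_
  · rwa [Subgroup.index_toAddSubgroup] at h1
  · by_contra hcon
    push Not at hcon
    apply hne
    rw [eq_top_iff]
    intro a _
    rw [MonoidHom.mem_ker]
    ext x
    exact hcon a (Additive.ofMul x)
  · intro a
    rw [MonoidHom.mem_ker]
    constructor
    · intro h x
      rw [hρ, h]; rfl
    · intro h
      ext x
      exact h (Additive.ofMul x)
  · intro x
    exact Iff.rfl

end Abelian

/-! ### the general case -/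

section Main

universe u

variable {A : Type*} [Group A] [Finite A] {p : ℕ} [hp : Fact p.Prime]

/-- the restriction of an action to an invariant subgroup -/
def onSub {Q : Type*} [Group Q] (φ : A →* MulAut Q) (V : Subgroup Q) (hV : ∀ a, ∀ x ∈ V, φ a x ∈ V) : A →* MulAut ↥V where
  toFun a :=
    { toFun := fun x => ⟨φ a x, hV a x x.2⟩
      invFun := fun x => ⟨φ a⁻¹ x, hV a⁻¹ x x.2⟩
      left_inv := fun x => by
        apply Subtype.ext
        change φ a⁻¹ (φ a (x : Q)) = x
        rw [← MulAut.mul_apply, ← map_mul, inv_mul_cancel, map_one, MulAut.one_apply]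
      right_inv := fun x => by
        apply Subtype.ext
        change φ a (φ a⁻¹ (x : Q)) = x
        rw [← MulAut.mul_apply, ← map_mul, mul_inv_cancel, map_one, MulAut.one_apply]
      map_mul' := fun x y => Subtype.ext (map_mul (φ a) (x : Q) y) }
  map_one' := by
    ext x
    change φ 1 (x : Q) = x
    rw [map_one]; rfl
  map_mul' a b := by
    ext x
    change φ (a * b) (x : Q) = φ a (φ b x)
    rw [map_mul]; rfl

omit [Finite A] in
theorem onSub_apply {Q : Type*} [Group Q] (φ : A →* MulAut Q) (V : Subgroup Q) (hV : ∀ a, ∀ x ∈ V, φ a x ∈ V) (a : A)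
    (x : ↥V) : ((onSub φ V hV a x : ↥V) : Q) = φ a x := rfl

/-- the action on the quotient by an invariant normal subgroup -/
def onQuot {Q : Type*} [Group Q] (φ : A →* MulAut Q) (V : Subgroup Q) [V.Normal] (hV : ∀ a, ∀ x ∈ V, φ a x ∈ V) :
    A →* MulAut (Q ⧸ V) where
  toFun a :=
    { toFun := QuotientGroup.map V V (φ a).toMonoidHom (fun x hx => hV a x hx)
      invFun := QuotientGroup.map V V (φ a⁻¹).toMonoidHom (fun x hx => hV a⁻¹ x hx)
      left_inv := fun x => by
        induction x using QuotientGroup.induction_on with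
        | H x =>
          change ((φ a⁻¹ (φ a x) : Q) : Q ⧸ V) = x
          rw [← MulAut.mul_apply, ← map_mul, inv_mul_cancel, map_one, MulAut.one_apply]
      right_inv := fun x => by
        induction x using QuotientGroup.induction_on with
        | H x =>
          change ((φ a (φ a⁻¹ x) : Q) : Q ⧸ V) = x
          rw [← MulAut.mul_apply, ← map_mul, mul_inv_cancel, map_one, MulAut.one_apply]
      map_mul' := fun x y => map_mul _ x y }
  map_one' := by
    ext x
    induction x using QuotientGroup.induction_on with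
    | H x =>
      change ((φ 1 x : Q) : Q ⧸ V) = x
      rw [map_one]; rfl
  map_mul' a b := by
    ext x
    induction x using QuotientGroup.induction_on with
    | H x =>
      change ((φ (a * b) x : Q) : Q ⧸ V) = ((φ a (φ b x) : Q) : Q ⧸ V)
      rw [map_mul]; rfl

omit [Finite A] in
theorem onQuot_mk {Q : Type*} [Group Q] (φ : A →* MulAut Q) (V : Subgroup Q) [V.Normal]
    (hV : ∀ a, ∀ x ∈ V, φ a x ∈ V) (a : A) (x : Q) : onQuot φ V hV a (x : Q ⧸ V) = ((φ a x : Q) : Q ⧸ V) := rfl

omit [Finite A] in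
/-- the order of the fixed points -/
theorem fixed_index {Q : Type*} [Group Q] [Finite Q] (φ : A →* MulAut Q) (V : Subgroup Q) [V.Normal]
    (hV : ∀ a, ∀ x ∈ V, φ a x ∈ V) :
    (fixed (onSub φ V hV)).index * (fixed (onQuot φ V hV)).index ≤ (fixed φ).index := by
  let π : ↥(fixed φ) →* Q ⧸ V := (QuotientGroup.mk' V).comp (fixed φ).subtype
  have h1 : Nat.card ↥(fixed φ) = Nat.card ↥π.range * Nat.card ↥π.ker := by
    rw [← Nat.card_congr (QuotientGroup.quotientKerEquivRange π).toEquiv,
      ← Subgroup.card_eq_card_quotient_mul_card_subgroup]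
  have h2 : Nat.card ↥π.range ≤ Nat.card ↥(fixed (onQuot φ V hV)) := by
    refine Subgroup.card_le_of_le ?_
    rintro _ ⟨x, rfl⟩ a
    change onQuot φ V hV a ((x : Q) : Q ⧸ V) = _
    rw [onQuot_mk, x.2 a]
    rfl
  have h3 : Nat.card ↥π.ker ≤ Nat.card ↥(fixed (onSub φ V hV)) := by
    have hm : ∀ x : ↥π.ker, ((x : ↥(fixed φ)) : Q) ∈ V := fun x =>
      (QuotientGroup.eq_one_iff _).1 (MonoidHom.mem_ker.1 x.2)
    refine Nat.card_le_card_of_injective (fun x : ↥π.ker => (⟨⟨_, hm x⟩, fun a => Subtype.ext ((x : ↥(fixed φ)).2 a)⟩ :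
      ↥(fixed (onSub φ V hV)))) ?_
    intro x y hxy
    have h4 : ((x : ↥(fixed φ)) : Q) = ((y : ↥(fixed φ)) : Q) := congrArg (fun z => ((z : ↥V) : Q)) (congrArg Subtype.val hxy)
    exact Subtype.ext (Subtype.ext h4)
  have h4 := (fixed φ).card_mul_index
  have h5 := (fixed (onSub φ V hV)).card_mul_index
  have h6 := (fixed (onQuot φ V hV)).card_mul_index
  have h7 := Subgroup.card_eq_card_quotient_mul_card_subgroup V
  have h8 : Nat.card ↥(fixed φ) ≤ Nat.card ↥(fixed (onQuot φ V hV)) * Nat.card ↥(fixed (onSub φ V hV)) := by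
    rw [h1]
    exact Nat.mul_le_mul h2 h3
  have h9 : 0 < Nat.card ↥(fixed (onQuot φ V hV)) * Nat.card ↥(fixed (onSub φ V hV)) :=
    Nat.mul_pos Nat.card_pos Nat.card_pos
  refine Nat.le_of_mul_le_mul_left ?_ h9
  calc Nat.card ↥(fixed (onQuot φ V hV)) * Nat.card ↥(fixed (onSub φ V hV)) *
        ((fixed (onSub φ V hV)).index * (fixed (onQuot φ V hV)).index)
      = (Nat.card ↥(fixed (onQuot φ V hV)) * (fixed (onQuot φ V hV)).index) *
        (Nat.card ↥(fixed (onSub φ V hV)) * (fixed (onSub φ V hV)).index) := by ring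
    _ = Nat.card ↥(fixed φ) * (fixed φ).index := by rw [h5, h6, h4, h7]
    _ ≤ _ := Nat.mul_le_mul_right _ h8

omit [Finite A] in
/-- an element of order prime to `p` acting trivially on `V` and on `Q / V` acts trivially -/
theorem mem_ker_of {Q : Type*} [Group Q] [Finite Q] (hpA : ¬ p ∣ Nat.card A) (φ : A →* MulAut Q) (V : Subgroup Q)
    [V.Normal] (hV : ∀ a, ∀ x ∈ V, φ a x ∈ V) (hVp : ∀ x ∈ V, x ^ p = 1) {a : A} (h1 : a ∈ (onSub φ V hV).ker)
    (h2 : a ∈ (onQuot φ V hV).ker) : a ∈ φ.ker := by
  rw [MonoidHom.mem_ker] at h1 h2 ⊢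
  ext x
  have h3 : x⁻¹ * φ a x ∈ V := by
    have h4 : onQuot φ V hV a (x : Q ⧸ V) = x := by rw [h2]; rfl
    rw [onQuot_mk] at h4
    exact QuotientGroup.eq.1 h4.symm
  obtain ⟨v, hv⟩ : ∃ v, v = x⁻¹ * φ a x := ⟨_, rfl⟩
  rw [← hv] at h3
  have hxv : φ a x = x * v := by rw [hv, mul_inv_cancel_left]
  have h4 : ∀ w ∈ V, φ a w = w := by
    intro w hw
    have h5 : onSub φ V hV a ⟨w, hw⟩ = ⟨w, hw⟩ := by rw [h1]; rfl
    exact congrArg Subtype.val h5
  have h5 : ∀ k : ℕ, φ (a ^ k) x = x * v ^ k := by
    intro k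
    induction k with
    | zero => rw [pow_zero, pow_zero, map_one, mul_one]; rfl
    | succ k ih =>
      rw [pow_succ' a, map_mul, MulAut.mul_apply, ih, map_mul, map_pow, h4 v h3, hxv, pow_succ' v, mul_assoc]
  have h6 : v ^ Nat.card A = 1 := by
    have h7 := h5 (Nat.card A)
    rw [pow_card_eq_one', map_one] at h7
    have h8 : x * 1 = x * v ^ Nat.card A := by rw [mul_one]; exact h7
    exact (mul_left_cancel h8).symm
  have h7 : v ^ p = 1 := hVp v h3
  have h8 : v = 1 := by
    have h9 := orderOf_dvd_of_pow_eq_one h6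
    have h10 := orderOf_dvd_of_pow_eq_one h7
    rcases (Nat.dvd_prime hp.1).1 h10 with h11 | h11
    · exact orderOf_eq_one_iff.1 h11
    · rw [h11] at h9
      exact absurd h9 hpA
  have h9 := h5 1
  rw [pow_one, pow_one, h8, mul_one] at h9
  exact h9

theorem main [hA : Group.IsNilpotent A] (hpA : ¬ p ∣ Nat.card A) (n : ℕ) : ∀ (Q : Type u) [Group Q] [Finite Q]
    (_ : IsPGroup p Q) (_ : Nat.card Q ≤ n) (φ : A →* MulAut Q),
    φ.ker.index ≤ (fixed φ).index ^ 2 ∧ (φ.ker ≠ ⊤ → φ.ker.index < (fixed φ).index ^ 2) := by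
  induction n with
  | zero =>
    intro Q _ _ _ hn
    have h0 := Nat.card_pos (α := Q)
    omega
  | succ n ih =>
    intro Q _ _ hQ hn φ
    rcases subsingleton_or_nontrivial Q with hs | hnt
    · have h1 : φ.ker = ⊤ := by
        rw [eq_top_iff]
        intro a _
        rw [MonoidHom.mem_ker]
        ext x
        exact Subsingleton.elim _ _
      refine ⟨?_, fun h => absurd h1 h⟩
      rw [h1, Subgroup.index_top]
      exact Nat.one_le_iff_ne_zero.2 (pow_ne_zero _ Subgroup.index_ne_zero_of_finite)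
    · -- the subgroup `Ω₁(Z(Q))`
      let V : Subgroup Q :=
        { carrier := {x | x ∈ center Q ∧ x ^ p = 1}
          one_mem' := ⟨one_mem _, one_pow _⟩
          mul_mem' := fun {x y} hx hy => ⟨mul_mem hx.1 hy.1, by
            have : Commute x y := mem_center_iff.1 hy.1 x
            rw [this.mul_pow, hx.2, hy.2, mul_one]⟩
          inv_mem' := fun {x} hx => ⟨inv_mem hx.1, by rw [inv_pow, hx.2, inv_one]⟩ }
      have hVm : ∀ x, x ∈ V ↔ x ∈ center Q ∧ x ^ p = 1 := fun _ => Iff.rfl
      have hVn : V.Normal := by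
        constructor
        intro x hx g
        have h1 : g * x * g⁻¹ = x := by
          rw [mem_center_iff.1 hx.1 g, mul_assoc, mul_inv_cancel, mul_one]
        rw [h1]
        exact hx
      have hV : ∀ a, ∀ x ∈ V, φ a x ∈ V := by
        intro a x hx
        refine ⟨?_, by rw [← map_pow, hx.2, map_one]⟩
        rw [mem_center_iff]
        intro g
        have h1 := mem_center_iff.1 hx.1 ((φ a).symm g)
        have h2 := congrArg (φ a) h1
        rw [map_mul, map_mul, MulEquiv.apply_symm_apply] at h2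
        exact h2
      have hVne : V ≠ ⊥ := by
        have hz : Nontrivial ↥(center Q) := hQ.center_nontrivial
        have hzp : IsPGroup p ↥(center Q) := hQ.to_subgroup _
        have hd : p ∣ Nat.card ↥(center Q) := by
          obtain ⟨k, hk⟩ := IsPGroup.iff_card.1 hzp
          have h1 : 1 < Nat.card ↥(center Q) := Finite.one_lt_card
          rw [hk] at h1 ⊢
          refine dvd_pow_self p ?_
          rintro rfl
          simp at h1
        obtain ⟨z, hz⟩ := exists_prime_orderOf_dvd_card' p hd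
        intro hbot
        have h1 : (z : Q) ∈ V := by
          refine ⟨z.2, ?_⟩
          have := pow_orderOf_eq_one z
          rw [hz] at this
          exact congrArg Subtype.val this
        rw [hbot, mem_bot] at h1
        have h2 : z = 1 := Subtype.ext h1
        rw [h2, orderOf_one] at hz
        exact hp.1.one_lt.ne hz
      have hcardV : 1 < Nat.card ↥V := by
        rw [Subgroup.one_lt_card_iff_ne_bot]
        exact hVne
      have hcardQ : Nat.card (Q ⧸ V) ≤ n := by
        have h7 := Subgroup.card_eq_card_quotient_mul_card_subgroup V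
        have h8 : 0 < Nat.card (Q ⧸ V) := Nat.card_pos
        have h9 : Nat.card (Q ⧸ V) < Nat.card Q := by
          rw [h7]
          exact lt_mul_of_one_lt_right h8 hcardV
        omega
      have ihQ := ih (Q ⧸ V) (hQ.to_quotient V) hcardQ (onQuot φ V hV)
      have hbase : (onSub φ V hV).ker.index ≤ (fixed (onSub φ V hV)).index ^ 2 ∧
          ((onSub φ V hV).ker ≠ ⊤ → (onSub φ V hV).ker.index < (fixed (onSub φ V hV)).index ^ 2) := by
        have h1 : (onSub φ V hV).ker ≠ ⊤ → (onSub φ V hV).ker.index < (fixed (onSub φ V hV)).index ^ 2 := fun hne =>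
          base hpA (fun x y => Subtype.ext ((mem_center_iff (G := Q)).1 y.2.1 x)) (fun x => Subtype.ext x.2.2) _ hne
        refine ⟨?_, h1⟩
        by_cases hne : (onSub φ V hV).ker = ⊤
        · rw [hne, Subgroup.index_top]
          exact Nat.one_le_iff_ne_zero.2 (pow_ne_zero _ Subgroup.index_ne_zero_of_finite)
        · exact (h1 hne).le
      have hker : (onSub φ V hV).ker ⊓ (onQuot φ V hV).ker ≤ φ.ker := fun a ha =>
        mem_ker_of hpA φ V hV (fun x hx => hx.2) ha.1 ha.2
      have hidx : φ.ker.index ≤ (onSub φ V hV).ker.index * (onQuot φ V hV).ker.index :=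
        (Nat.le_of_dvd (Nat.pos_of_ne_zero Subgroup.index_ne_zero_of_finite) (Subgroup.index_dvd_of_le hker)).trans
          Subgroup.index_inf_le
      have hfix := fixed_index φ V hV
      have hfix2 : (fixed (onSub φ V hV)).index ^ 2 * (fixed (onQuot φ V hV)).index ^ 2 ≤ (fixed φ).index ^ 2 := by
        rw [← mul_pow]
        exact Nat.pow_le_pow_left hfix 2
      refine ⟨(hidx.trans (Nat.mul_le_mul hbase.1 ihQ.1)).trans hfix2, fun hne => ?_⟩
      have hor : (onSub φ V hV).ker ≠ ⊤ ∨ (onQuot φ V hV).ker ≠ ⊤ := by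
        by_contra hcon
        push Not at hcon
        apply hne
        rw [eq_top_iff]
        rw [hcon.1, hcon.2, top_inf_eq] at hker
        exact hker
      have hp1 : 0 < (onSub φ V hV).ker.index := Nat.pos_of_ne_zero Subgroup.index_ne_zero_of_finite
      have hp2 : 0 < (onQuot φ V hV).ker.index := Nat.pos_of_ne_zero Subgroup.index_ne_zero_of_finite
      have hp3 : 0 < (fixed (onSub φ V hV)).index ^ 2 := lt_of_lt_of_le hp1 hbase.1
      rcases hor with h | h
      · calc φ.ker.index ≤ (onSub φ V hV).ker.index * (onQuot φ V hV).ker.index := hidx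
          _ < (fixed (onSub φ V hV)).index ^ 2 * (onQuot φ V hV).ker.index := Nat.mul_lt_mul_of_pos_right (hbase.2 h) hp2
          _ ≤ (fixed (onSub φ V hV)).index ^ 2 * (fixed (onQuot φ V hV)).index ^ 2 := Nat.mul_le_mul_left _ ihQ.1
          _ ≤ _ := hfix2
      · calc φ.ker.index ≤ (onSub φ V hV).ker.index * (onQuot φ V hV).ker.index := hidx
          _ ≤ (fixed (onSub φ V hV)).index ^ 2 * (onQuot φ V hV).ker.index := Nat.mul_le_mul_right _ hbase.1
          _ < (fixed (onSub φ V hV)).index ^ 2 * (fixed (onQuot φ V hV)).index ^ 2 := Nat.mul_lt_mul_of_pos_left (ihQ.2 h) hp3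
          _ ≤ _ := hfix2

/-- **Nilpotent `p'`-groups acting on `p`-groups**, action form. -/
theorem index_lt [hA : Group.IsNilpotent A] (hpA : ¬ p ∣ Nat.card A) {Q : Type u} [Group Q] [Finite Q]
    (hQ : IsPGroup p Q) (φ : A →* MulAut Q) (hne : φ.ker ≠ ⊤) : φ.ker.index < (fixed φ).index ^ 2 :=
  (main hpA _ Q hQ le_rfl φ).2 hne

end Main

end Cfsg.Agent.H972.NilpAct
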