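import Mathlib
import Cfsg.Agent.H972.NSm
import Cfsg.Agent.H972.NilpAct
import Cfsg.Agent.Lib.Cores
import Cfsg.Agent.Lib.NilpotentCoprime

/-!
# Nilpotent subgroups of groups of local characteristic `p` (helper972)

`smallAt_of_local` : if the `p`-local subgroups `L` of `G` satisfy `C_L(O_p(L)) ≤ O_p(L)` and there are two Sylow
`p`-subgroups with trivial intersection, then `|N| ^ 2 < |G|` for every nilpotent subgroup `N` of order divisible by `p`.
-/

set_option autoImplicit false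

namespace Cfsg.Agent.H972.CharP

open Subgroup

variable {G : Type*} [Group G] [Finite G] {p : ℕ} [hp : Fact p.Prime]

/-- the splitting of a nilpotent group -/
theorem exists_split (N : Subgroup G) (hN : Group.IsNilpotent ↥N) :
    ∃ X A : Subgroup G, IsPGroup p ↥X ∧ ¬ p ∣ Nat.card ↥A ∧ A ≤ centralizer (X : Set G) ∧
      Nat.card ↥N = Nat.card ↥X * Nat.card ↥A ∧ Group.IsNilpotent ↥A ∧ (p ∣ Nat.card ↥N → X ≠ ⊥) := by
  obtain ⟨S⟩ : Nonempty (Sylow p ↥N) := inferInstance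
  have hSn : (S : Subgroup ↥N).Normal := by
    have h1 := ((Group.isNilpotent_of_finite_tfae (G := ↥N)).out 0 3).1 hN
    exact h1 p hp S
  have hcop : (Nat.card ↥(S : Subgroup ↥N)).Coprime (S : Subgroup ↥N).index := S.card_coprime_index
  obtain ⟨B, hB⟩ := Subgroup.exists_right_complement'_of_coprime hcop
  have hcard : Nat.card ↥(S : Subgroup ↥N) * Nat.card ↥B = Nat.card ↥N := hB.card_mul_card
  have hidx : Nat.card ↥B = (S : Subgroup ↥N).index := by
    have h1 := (S : Subgroup ↥N).card_mul_index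
    rw [← hcard] at h1
    exact (Nat.eq_of_mul_eq_mul_left Nat.card_pos h1).symm
  have hpB : ¬ p ∣ Nat.card ↥B := by
    rw [hidx]
    exact S.not_dvd_index
  have e1 : ↥(S : Subgroup ↥N) ≃* ↥((S : Subgroup ↥N).map N.subtype) :=
    (S : Subgroup ↥N).equivMapOfInjective _ N.subtype_injective
  have e2 : ↥B ≃* ↥(B.map N.subtype) := B.equivMapOfInjective _ N.subtype_injective
  refine ⟨(S : Subgroup ↥N).map N.subtype, B.map N.subtype, ?_, ?_, ?_, ?_, ?_, ?_⟩
  · exact S.isPGroup'.map _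
  · rw [← Nat.card_congr e2.toEquiv]
    exact hpB
  · rintro _ ⟨b, hb, rfl⟩
    rw [mem_centralizer_iff]
    rintro _ ⟨s, hs, rfl⟩
    have h1 : (orderOf s).Coprime (orderOf b) := by
      obtain ⟨k, hk⟩ := IsPGroup.iff_orderOf.1 S.isPGroup' ⟨s, hs⟩
      have h2 : orderOf s = p ^ k := by rw [← hk]; exact (Subgroup.orderOf_mk s hs).symm
      have h3 : orderOf b ∣ Nat.card ↥B := by
        have := orderOf_dvd_natCard (⟨b, hb⟩ : ↥B)
        rwa [Subgroup.orderOf_mk] at this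
      rw [h2]
      refine Nat.Coprime.pow_left _ ((Nat.Prime.coprime_iff_not_dvd hp.1).2 fun h => hpB (h.trans h3))
    exact congrArg N.subtype (Lib.NilpotentCoprime.commute_of_coprime_orderOf h1).eq
  · rw [← Nat.card_congr e2.toEquiv, ← Nat.card_congr e1.toEquiv, hcard]
  · exact Group.nilpotent_of_mulEquiv e2
  · intro hd hbot
    have h1 : (S : Subgroup ↥N) = ⊥ := by
      rwa [Subgroup.map_eq_bot_iff_of_injective _ N.subtype_injective] at hbot
    have h2 := S.card_eq_multiplicity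
    rw [h1, Subgroup.card_bot] at h2
    have h3 : (Nat.card ↥N).factorization p ≠ 0 := (hp.1.factorization_pos_of_dvd Nat.card_pos.ne' hd).ne'
    have h4 := Nat.one_lt_pow h3 hp.1.one_lt
    omega

theorem smallAt_of_local
    (hloc : ∀ K : Subgroup G, IsPGroup p ↥K → K ≠ ⊥ →
      centralizer (pCore p ↥(normalizer (K : Set G)) : Set ↥(normalizer (K : Set G))) ≤ pCore p ↥(normalizer (K : Set G)))
    (hopp : ∃ Q R : Sylow p G, (Q : Subgroup G) ⊓ R = ⊥) (hnp : ¬ IsPGroup p G) : NSm.SmallAt p G := by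
  intro N hN hpN
  obtain ⟨X, A, hX, hpA, hAX, hcard, hA, hX1⟩ := exists_split (p := p) N hN
  have hX1 := hX1 hpN
  have hLX := hloc X hX hX1
  generalize hL : normalizer (X : Set G) = L at hLX
  have hXL : X ≤ L := by rw [← hL]; exact Subgroup.le_normalizer
  have hAL : A ≤ L := by
    rw [← hL]
    exact hAX.trans (Subgroup.centralizer_le_normalizer (X : Set G))
  have hXn : (X.subgroupOf L).Normal := by
    rw [← hL]
    infer_instance
  generalize hQ : pCore p ↥L = Q at hLX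
  have hQn : Q.Normal := by rw [← hQ]; exact Lib.Cores.pCore_normal p
  have hQp : IsPGroup p ↥Q := by rw [← hQ]; exact Lib.Cores.pCore_isPGroup p
  have hXQ : X.subgroupOf L ≤ Q := by
    rw [← hQ]
    exact Lib.Cores.le_pCore hXn (hX.of_equiv (Subgroup.subgroupOfEquivOfLe hXL).symm)
  -- the action
  let φ : ↥A →* MulAut ↥Q := (MulAut.conjNormal (H := Q)).comp (Subgroup.inclusion hAL)
  have hφ : ∀ (a : ↥A) (x : ↥Q), ((φ a x : ↥Q) : ↥L) = (⟨a, hAL a.2⟩ : ↥L) * x * (⟨a, hAL a.2⟩ : ↥L)⁻¹ := fun _ _ => rfl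
  have hAQ : ∀ a : ↥A, (⟨(a : G), hAL a.2⟩ : ↥L) ∈ Q → a = 1 := by
    intro a ha
    obtain ⟨k, hk⟩ := IsPGroup.iff_orderOf.1 hQp ⟨_, ha⟩
    have h1 : orderOf a = p ^ k := by
      rw [← hk]
      exact ((Subgroup.orderOf_mk _ ha).trans ((Subgroup.orderOf_mk (a : G) (hAL a.2)).trans (Subgroup.orderOf_coe a))).symm
    have h2 : orderOf a ∣ Nat.card ↥A := orderOf_dvd_natCard a
    rw [h1] at h2
    rcases Nat.eq_zero_or_pos k with h3 | h3
    · rw [h3, pow_zero] at h1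
      exact orderOf_eq_one_iff.1 h1
    · exact absurd ((dvd_pow_self p h3.ne').trans h2) hpA
  have hker : φ.ker = ⊥ := by
    rw [eq_bot_iff]
    intro a ha
    rw [mem_bot]
    apply hAQ
    apply hLX
    rw [mem_centralizer_iff]
    intro x hx
    have h1 := congrArg (fun f : MulAut ↥Q => ((f ⟨x, hx⟩ : ↥Q) : ↥L)) (MonoidHom.mem_ker.1 ha)
    have h2 : (⟨a, hAL a.2⟩ : ↥L) * x * (⟨a, hAL a.2⟩ : ↥L)⁻¹ = x := h1
    calc x * (⟨a, hAL a.2⟩ : ↥L) = ((⟨a, hAL a.2⟩ : ↥L) * x * (⟨a, hAL a.2⟩ : ↥L)⁻¹) * ⟨a, hAL a.2⟩ := by rw [h2]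
      _ = _ := by group
  have hfix : Nat.card ↥X ≤ Nat.card ↥(NilpAct.fixed φ) := by
    refine Nat.card_le_card_of_injective
      (fun x : ↥X => (⟨⟨⟨x, hXL x.2⟩, hXQ (Subgroup.mem_subgroupOf.2 x.2)⟩, fun a => ?_⟩ : ↥(NilpAct.fixed φ))) ?_
    · apply Subtype.ext
      rw [hφ]
      apply Subtype.ext
      change (a : G) * (x : G) * (a : G)⁻¹ = x
      have h1 := mem_centralizer_iff.1 (hAX a.2) x x.2
      rw [← h1]
      group
    · intro x y hxy
      have h1 := congrArg (fun z : ↥(NilpAct.fixed φ) => (((z : ↥Q) : ↥L) : G)) hxy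
      exact Subtype.ext h1
  -- the Sylow subgroups
  obtain ⟨R1, R2, hR⟩ := hopp
  obtain ⟨S, hS⟩ := (hQp.map L.subtype).exists_le_sylow
  obtain ⟨g, hg⟩ := MulAction.exists_smul_eq G R1 S
  have hR' : (S : Subgroup G) ⊓ (g • R2 : Sylow p G) = ⊥ := by
    rw [← hg, Sylow.coe_subgroup_smul, Sylow.coe_subgroup_smul, ← Subgroup.smul_inf, hR, Subgroup.smul_bot]
  generalize g • R2 = T at hR'
  have hTcard : Nat.card ↥(T : Subgroup G) = Nat.card ↥(S : Subgroup G) := by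
    rw [T.card_eq_multiplicity, S.card_eq_multiplicity]
  have hQS : Nat.card ↥Q ≤ Nat.card ↥(S : Subgroup G) := by
    rw [Nat.card_congr (Q.equivMapOfInjective _ L.subtype_injective).toEquiv]
    exact Subgroup.card_le_of_le hS
  have hSS : Nat.card ↥(S : Subgroup G) * Nat.card ↥(T : Subgroup G) ≤ Nat.card G := by
    rw [← Nat.card_prod]
    refine Nat.card_le_card_of_injective (fun x : ↥(S : Subgroup G) × ↥(T : Subgroup G) => (x.1 : G) * (x.2 : G)) ?_
    rintro ⟨a, b⟩ ⟨c, d⟩ h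
    have h1 : (a : G) * b = c * d := h
    have h2 : (c : G)⁻¹ * a = d * (b : G)⁻¹ := by
      calc (c : G)⁻¹ * a = (c : G)⁻¹ * (a * b) * (b : G)⁻¹ := by group
        _ = (c : G)⁻¹ * (c * d) * (b : G)⁻¹ := by rw [h1]
        _ = _ := by group
    have h3 : (c : G)⁻¹ * a ∈ (S : Subgroup G) ⊓ (T : Subgroup G) := by
      refine ⟨(S : Subgroup G).mul_mem ((S : Subgroup G).inv_mem c.2) a.2, ?_⟩
      rw [h2]
      exact (T : Subgroup G).mul_mem d.2 ((T : Subgroup G).inv_mem b.2)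
    rw [hR', mem_bot] at h3
    rw [h3] at h2
    exact Prod.ext (Subtype.ext (inv_mul_eq_one.1 h3).symm) (Subtype.ext (mul_inv_eq_one.1 h2.symm).symm)
  by_cases hA1 : A = ⊥
  · -- `p`-groups
    rw [hA1, Subgroup.card_bot, mul_one] at hcard
    have h1 : Nat.card ↥X ≤ Nat.card ↥(S : Subgroup G) := by
      have h2 : Nat.card ↥X ≤ Nat.card ↥Q := hfix.trans (Subgroup.card_le_card_group _)
      exact h2.trans hQS
    rw [hcard, sq]
    refine lt_of_le_of_ne ?_ ?_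
    · calc Nat.card ↥X * Nat.card ↥X ≤ Nat.card ↥(S : Subgroup G) * Nat.card ↥(S : Subgroup G) := Nat.mul_le_mul h1 h1
        _ ≤ Nat.card G := by rw [← hTcard] at hSS ⊢; exact hSS
    · intro h
      apply hnp
      obtain ⟨k, hk⟩ := IsPGroup.iff_card.1 hX
      rw [IsPGroup.iff_card]
      exact ⟨k + k, by rw [← h, hk, pow_add]⟩
  · have hne : φ.ker ≠ ⊤ := by
      rw [hker]
      intro h
      apply hA1
      have h1 : Subsingleton ↥A := Subgroup.subsingleton_iff.1 (subsingleton_of_bot_eq_top h)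
      exact Subgroup.eq_bot_of_subsingleton A
    have h1 := NilpAct.index_lt hpA hQp φ hne
    rw [hker, Subgroup.index_bot] at h1
    have h2 := (NilpAct.fixed φ).card_mul_index
    -- the counting
    have h3 : Nat.card ↥Q * Nat.card ↥A * Nat.card ↥(T : Subgroup G) ≤ Nat.card G := by
      rw [← Nat.card_prod, ← Nat.card_prod]
      refine Nat.card_le_card_of_injective (fun x : (↥Q × ↥A) × ↥(T : Subgroup G) =>
        ((x.1.1 : ↥L) : G) * (x.1.2 : G) * (x.2 : G)) ?_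
      rintro ⟨⟨x, a⟩, y⟩ ⟨⟨x', a'⟩, y'⟩ h
      have h4 : ((x : ↥L) : G) * (a : G) * (y : G) = ((x' : ↥L) : G) * (a' : G) * (y' : G) := h
      -- `r = a'⁻¹ x'⁻¹ x a`
      have h5 : (a' : G)⁻¹ * ((x' : ↥L) : G)⁻¹ * ((x : ↥L) : G) * (a : G) = y' * (y : G)⁻¹ := by
        calc (a' : G)⁻¹ * ((x' : ↥L) : G)⁻¹ * ((x : ↥L) : G) * (a : G)
            = (a' : G)⁻¹ * ((x' : ↥L) : G)⁻¹ * (((x : ↥L) : G) * (a : G) * (y : G)) * (y : G)⁻¹ := by group
          _ = (a' : G)⁻¹ * ((x' : ↥L) : G)⁻¹ * (((x' : ↥L) : G) * (a' : G) * (y' : G)) * (y : G)⁻¹ := by rw [h4]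
          _ = _ := by group
      let r : ↥L := (⟨a', hAL a'.2⟩ : ↥L)⁻¹ * (x' : ↥L)⁻¹ * (x : ↥L) * ⟨a, hAL a.2⟩
      have hr : (r : G) = y' * (y : G)⁻¹ := h5
      have hrT : (r : G) ∈ (T : Subgroup G) := by
        rw [hr]
        exact (T : Subgroup G).mul_mem y'.2 ((T : Subgroup G).inv_mem y.2)
      obtain ⟨k, hk⟩ := T.isPGroup' ⟨_, hrT⟩
      have hrk0 : (r : G) ^ p ^ k = 1 := congrArg (fun z : ↥(T : Subgroup G) => (z : G)) hk
      have hrk : r ^ p ^ k = 1 := Subtype.ext hrk0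
      have hπ : (r : ↥L ⧸ Q) = ((⟨((a'⁻¹ * a : ↥A) : G), hAL (a'⁻¹ * a).2⟩ : ↥L) : ↥L ⧸ Q) := by
        have hx : ((x : ↥L) : ↥L ⧸ Q) = 1 := (QuotientGroup.eq_one_iff _).2 x.2
        have hx' : ((x' : ↥L) : ↥L ⧸ Q) = 1 := (QuotientGroup.eq_one_iff _).2 x'.2
        have hm : (⟨((a'⁻¹ * a : ↥A) : G), hAL (a'⁻¹ * a).2⟩ : ↥L) = (⟨a', hAL a'.2⟩ : ↥L)⁻¹ * ⟨a, hAL a.2⟩ := rfl
        rw [hm]
        change (((⟨a', hAL a'.2⟩ : ↥L)⁻¹ * (x' : ↥L)⁻¹ * (x : ↥L) * ⟨a, hAL a.2⟩ : ↥L) : ↥L ⧸ Q) = _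
        simp only [QuotientGroup.mk_mul, QuotientGroup.mk_inv, hx, hx', inv_one, mul_one]
      have haa : (a'⁻¹ * a) ^ p ^ k = 1 := by
        apply hAQ
        rw [← QuotientGroup.eq_one_iff]
        have h6 : ((r ^ p ^ k : ↥L) : ↥L ⧸ Q) = 1 := by rw [hrk]; rfl
        rw [QuotientGroup.mk_pow, hπ, ← QuotientGroup.mk_pow] at h6
        exact h6
      have haa1 : a'⁻¹ * a = 1 := by
        have h7 := orderOf_dvd_of_pow_eq_one haa
        obtain ⟨j, -, hj⟩ := (Nat.dvd_prime_pow hp.1).1 h7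
        have h8 : orderOf (a'⁻¹ * a) ∣ Nat.card ↥A := orderOf_dvd_natCard _
        rw [hj] at h8
        rcases Nat.eq_zero_or_pos j with h9 | h9
        · rw [h9, pow_zero] at hj
          exact orderOf_eq_one_iff.1 hj
        · exact absurd ((dvd_pow_self p h9.ne').trans h8) hpA
      have hrQ : r ∈ Q := by
        rw [← QuotientGroup.eq_one_iff, hπ, QuotientGroup.eq_one_iff]
        have h9 : (⟨((a'⁻¹ * a : ↥A) : G), hAL (a'⁻¹ * a).2⟩ : ↥L) = 1 := by
          apply Subtype.ext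
          change ((a'⁻¹ * a : ↥A) : G) = 1
          rw [haa1]; rfl
        rw [h9]
        exact Q.one_mem
      have hr1 : (r : G) = 1 := by
        have h9 : (r : G) ∈ (S : Subgroup G) ⊓ (T : Subgroup G) := ⟨hS ⟨r, hrQ, rfl⟩, hrT⟩
        rw [hR', mem_bot] at h9
        exact h9
      have hyy : y = y' := by
        rw [hr1] at hr
        exact (Subtype.ext (mul_inv_eq_one.1 hr.symm)).symm
      have haa' : a = a' := (inv_mul_eq_one.1 haa1).symm
      have hxx : ((x : ↥L) : G) = ((x' : ↥L) : G) := by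
        rw [haa', hyy] at h4
        exact mul_right_cancel (mul_right_cancel h4)
      rw [haa', hyy, Subtype.ext (Subtype.ext hxx)]
    have h4 : 0 < Nat.card ↥A := Nat.card_pos
    have h5 : 0 < Nat.card ↥(NilpAct.fixed φ) := Nat.card_pos
    calc Nat.card ↥N ^ 2 = Nat.card ↥X ^ 2 * Nat.card ↥A * Nat.card ↥A := by rw [hcard]; ring
      _ ≤ Nat.card ↥(NilpAct.fixed φ) ^ 2 * Nat.card ↥A * Nat.card ↥A := by gcongr
      _ < Nat.card ↥(NilpAct.fixed φ) ^ 2 * Nat.card ↥A * (NilpAct.fixed φ).index ^ 2 :=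
          Nat.mul_lt_mul_of_pos_left h1 (by positivity)
      _ = Nat.card ↥Q * Nat.card ↥A * Nat.card ↥Q := by rw [← h2]; ring
      _ ≤ Nat.card ↥Q * Nat.card ↥A * Nat.card ↥(T : Subgroup G) := by
          rw [hTcard]
          exact Nat.mul_le_mul_left _ hQS
      _ ≤ _ := h3

end Cfsg.Agent.H972.CharP
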