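import Mathlib

/-!
# Numerical inequalities for the classical groups (helper972, for S2242)
-/

set_option autoImplicit false

namespace Cfsg.Agent.H972.ClassNum

theorem cs {q : ℕ} (hq : 1 ≤ q) (k : ℕ) : ((q ^ k - 1 : ℕ) : ℤ) = (q : ℤ) ^ k - 1 := by
  rw [Nat.cast_sub (Nat.one_le_pow _ _ hq), Nat.cast_pow, Nat.cast_one]

theorem c1 {q : ℕ} (hq : 1 ≤ q) : ((q - 1 : ℕ) : ℤ) = (q : ℤ) - 1 := by
  rw [Nat.cast_sub hq, Nat.cast_one]

/-- `∏_{i ≤ m} (q ^ (2 i) - 1)` -/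
def P (m q : ℕ) : ℕ := ∏ i ∈ Finset.range m, (q ^ (2 * (i + 1)) - 1)

theorem P_succ (m q : ℕ) : P (m + 1) q = P m q * (q ^ (2 * (m + 1)) - 1) := Finset.prod_range_succ _ _

theorem P_pos {q : ℕ} (hq : 2 ≤ q) (m : ℕ) : 0 < P m q := by
  refine Finset.prod_pos fun i _ => ?_
  have : 1 < q ^ (2 * (i + 1)) := Nat.one_lt_pow (by omega) (by omega)
  omega

theorem P_three (q : ℕ) : P 3 q = (q ^ 2 - 1) * (q ^ 4 - 1) * (q ^ 6 - 1) := by
  simp only [P, Finset.prod_range_succ, Finset.prod_range_zero, one_mul]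

/-! ### symplectic and odd orthogonal groups -/

theorem star {q m : ℕ} (hq : 3 ≤ q) (hm : 3 ≤ m) :
    2 * (q + 1) * (4 * (q ^ 2 - 1)) ^ (2 * m) < (q - 1) * (q ^ (m ^ 2) * P m q) := by
  induction m, hm using Nat.le_induction with
  | base =>
    rw [P_three]
    zify
    rw [cs (by omega), cs (by omega), cs (by omega), c1 (by omega)]
    obtain ⟨r, rfl⟩ := Nat.exists_eq_add_of_le hq
    rw [← sub_pos]
    push_cast
    ring_nf
    positivity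
  | succ m hm ih =>
    have h1 : (4 * (q ^ 2 - 1)) ^ 2 ≤ q ^ (2 * m + 1) * (q ^ (2 * (m + 1)) - 1) := by
      have h2 : 4 * (q ^ 2 - 1) ≤ q ^ (2 * m + 1) := by
        calc 4 * (q ^ 2 - 1) ≤ q ^ 2 * q ^ 2 := by
              refine Nat.mul_le_mul ?_ (Nat.sub_le _ _)
              nlinarith
          _ = q ^ 4 := by ring
          _ ≤ _ := Nat.pow_le_pow_right (by omega) (by omega)
      have h3 : q ^ (2 * m + 1) ≤ q ^ (2 * (m + 1)) - 1 := by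
        have h4 : q ^ (2 * (m + 1)) = q * q ^ (2 * m + 1) := by ring
        have h5 : 1 ≤ q ^ (2 * m + 1) := Nat.one_le_pow _ _ (by omega)
        rw [h4]
        have h6 : 3 * q ^ (2 * m + 1) ≤ q * q ^ (2 * m + 1) := Nat.mul_le_mul_right _ hq
        omega
      rw [sq]
      exact Nat.mul_le_mul h2 (h2.trans h3)
    calc 2 * (q + 1) * (4 * (q ^ 2 - 1)) ^ (2 * (m + 1)) = 2 * (q + 1) * (4 * (q ^ 2 - 1)) ^ (2 * m) * (4 * (q ^ 2 - 1)) ^ 2 := by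
          rw [show 2 * (m + 1) = 2 * m + 2 by ring, pow_add]; ring
      _ ≤ 2 * (q + 1) * (4 * (q ^ 2 - 1)) ^ (2 * m) * (q ^ (2 * m + 1) * (q ^ (2 * (m + 1)) - 1)) :=
          Nat.mul_le_mul_left _ h1
      _ < (q - 1) * (q ^ (m ^ 2) * P m q) * (q ^ (2 * m + 1) * (q ^ (2 * (m + 1)) - 1)) := by
          refine Nat.mul_lt_mul_of_pos_right ih ?_
          refine lt_of_lt_of_le ?_ h1
          have : 0 < q ^ 2 - 1 := by
            have : 9 ≤ q ^ 2 := by nlinarith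
            omega
          positivity
      _ = (q - 1) * (q ^ ((m + 1) ^ 2) * P (m + 1) q) := by
          rw [P_succ, show (m + 1) ^ 2 = m ^ 2 + (2 * m + 1) by ring, pow_add]; ring

theorem star_two {m : ℕ} (hm : 3 ≤ m) : 121 ^ (2 * m) < 10 ^ (2 * m) * (4 * (2 ^ (m ^ 2) * P m 2)) := by
  induction m, hm using Nat.le_induction with
  | base => rw [P_three]; norm_num
  | succ m hm ih =>
    have h1 : 121 ^ 2 ≤ 10 ^ 2 * (2 ^ (2 * m + 1) * (2 ^ (2 * (m + 1)) - 1)) := by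
      have h2 : 2 ^ 7 ≤ 2 ^ (2 * m + 1) := Nat.pow_le_pow_right (by norm_num) (by omega)
      have h3 : 2 ^ 8 ≤ 2 ^ (2 * (m + 1)) := Nat.pow_le_pow_right (by norm_num) (by omega)
      have h4 : 2 ^ 7 * (2 ^ 8 - 1) ≤ 2 ^ (2 * m + 1) * (2 ^ (2 * (m + 1)) - 1) := Nat.mul_le_mul h2 (by omega)
      norm_num at h4 ⊢
      omega
    calc 121 ^ (2 * (m + 1)) = 121 ^ (2 * m) * 121 ^ 2 := by rw [← pow_add]; rfl
      _ ≤ 121 ^ (2 * m) * (10 ^ 2 * (2 ^ (2 * m + 1) * (2 ^ (2 * (m + 1)) - 1))) := Nat.mul_le_mul_left _ h1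
      _ < 10 ^ (2 * m) * (4 * (2 ^ (m ^ 2) * P m 2)) * (10 ^ 2 * (2 ^ (2 * m + 1) * (2 ^ (2 * (m + 1)) - 1))) :=
          Nat.mul_lt_mul_of_pos_right ih (lt_of_lt_of_le (by norm_num) h1)
      _ = _ := by
          rw [P_succ, show (m + 1) ^ 2 = m ^ 2 + (2 * m + 1) by ring, pow_add 2 (m ^ 2),
            show 2 * (m + 1) = 2 * m + 2 by ring, pow_add 10 (2 * m) 2]
          ring

/-! ### even orthogonal groups -/

theorem plus {q m : ℕ} (hq : 3 ≤ q) (hm : 4 ≤ m) :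
    (4 * (q ^ 2 - 1)) ^ (2 * m) < (q - 1) ^ 2 * (q ^ (m * (m - 1)) * (q ^ m - 1) * P (m - 1) q) := by
  obtain ⟨m, rfl⟩ : ∃ k, m = k + 1 := ⟨m - 1, by omega⟩
  rw [show m + 1 - 1 = m by omega]
  have hm' : 3 ≤ m := by omega
  clear hm
  induction m, hm' using Nat.le_induction with
  | base =>
    rw [P_three]
    zify
    rw [cs (by omega), cs (by omega), cs (by omega), c1 (by omega)]
    obtain ⟨r, rfl⟩ := Nat.exists_eq_add_of_le hq
    rw [← sub_pos]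
    push_cast
    ring_nf
    positivity
  | succ m hm ih =>
    have hq1 : q ^ (m + 1) - 1 ≤ q ^ (m + 1 + 1) - 1 := Nat.sub_le_sub_right (Nat.pow_le_pow_right (by omega) (by omega)) _
    have h1 : (4 * (q ^ 2 - 1)) ^ 2 ≤ q ^ (2 * (m + 1)) * (q ^ (2 * (m + 1)) - 1) := by
      have h2 : 4 * (q ^ 2 - 1) ≤ q ^ (2 * m + 1) := by
        calc 4 * (q ^ 2 - 1) ≤ q ^ 2 * q ^ 2 := by
              refine Nat.mul_le_mul ?_ (Nat.sub_le _ _)
              nlinarith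
          _ = q ^ 4 := by ring
          _ ≤ _ := Nat.pow_le_pow_right (by omega) (by omega)
      have h3 : q ^ (2 * m + 1) ≤ q ^ (2 * (m + 1)) - 1 := by
        have h4 : q ^ (2 * (m + 1)) = q * q ^ (2 * m + 1) := by ring
        have h5 : 1 ≤ q ^ (2 * m + 1) := Nat.one_le_pow _ _ (by omega)
        rw [h4]
        have h6 : 3 * q ^ (2 * m + 1) ≤ q * q ^ (2 * m + 1) := Nat.mul_le_mul_right _ hq
        omega
      rw [sq]
      exact Nat.mul_le_mul (h2.trans (h3.trans (Nat.sub_le _ _))) (h2.trans h3)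
    have h0 : 0 < (4 * (q ^ 2 - 1)) ^ 2 := by
      have : 0 < q ^ 2 - 1 := by
        have : 9 ≤ q ^ 2 := by nlinarith
        omega
      positivity
    calc (4 * (q ^ 2 - 1)) ^ (2 * (m + 1 + 1)) = (4 * (q ^ 2 - 1)) ^ (2 * (m + 1)) * (4 * (q ^ 2 - 1)) ^ 2 := by
          rw [show 2 * (m + 1 + 1) = 2 * (m + 1) + 2 by ring, pow_add]
      _ ≤ (4 * (q ^ 2 - 1)) ^ (2 * (m + 1)) * (q ^ (2 * (m + 1)) * (q ^ (2 * (m + 1)) - 1)) := Nat.mul_le_mul_left _ h1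
      _ < (q - 1) ^ 2 * (q ^ ((m + 1) * m) * (q ^ (m + 1) - 1) * P m q) *
          (q ^ (2 * (m + 1)) * (q ^ (2 * (m + 1)) - 1)) := Nat.mul_lt_mul_of_pos_right ih (lt_of_lt_of_le h0 h1)
      _ ≤ (q - 1) ^ 2 * (q ^ ((m + 1) * m) * (q ^ (m + 1 + 1) - 1) * P m q) *
          (q ^ (2 * (m + 1)) * (q ^ (2 * (m + 1)) - 1)) := by gcongr
      _ = _ := by
          rw [P_succ, show (m + 1 + 1) * (m + 1) = (m + 1) * m + 2 * (m + 1) by ring, pow_add q ((m + 1) * m)]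
          ring

theorem plus_two {m : ℕ} (hm : 4 ≤ m) :
    121 ^ (2 * m) < 10 ^ (2 * m) * (4 * (2 ^ (m * (m - 1)) * (2 ^ m - 1) * P (m - 1) 2)) := by
  obtain ⟨m, rfl⟩ : ∃ k, m = k + 1 := ⟨m - 1, by omega⟩
  rw [show m + 1 - 1 = m by omega]
  have hm' : 3 ≤ m := by omega
  clear hm
  induction m, hm' using Nat.le_induction with
  | base => rw [P_three]; norm_num
  | succ m hm ih =>
    have hq1 : 2 ^ (m + 1) - 1 ≤ 2 ^ (m + 1 + 1) - 1 := Nat.sub_le_sub_right (Nat.pow_le_pow_right (by omega) (by omega)) _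
    have h1 : 121 ^ 2 ≤ 10 ^ 2 * (2 ^ (2 * (m + 1)) * (2 ^ (2 * (m + 1)) - 1)) := by
      have h3 : 2 ^ 8 ≤ 2 ^ (2 * (m + 1)) := Nat.pow_le_pow_right (by norm_num) (by omega)
      have h4 : 2 ^ 8 * (2 ^ 8 - 1) ≤ 2 ^ (2 * (m + 1)) * (2 ^ (2 * (m + 1)) - 1) := Nat.mul_le_mul h3 (by omega)
      norm_num at h4 ⊢
      omega
    calc 121 ^ (2 * (m + 1 + 1)) = 121 ^ (2 * (m + 1)) * 121 ^ 2 := by
          rw [show 2 * (m + 1 + 1) = 2 * (m + 1) + 2 by ring, pow_add]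
      _ ≤ 121 ^ (2 * (m + 1)) * (10 ^ 2 * (2 ^ (2 * (m + 1)) * (2 ^ (2 * (m + 1)) - 1))) := Nat.mul_le_mul_left _ h1
      _ < 10 ^ (2 * (m + 1)) * (4 * (2 ^ ((m + 1) * m) * (2 ^ (m + 1) - 1) * P m 2)) *
          (10 ^ 2 * (2 ^ (2 * (m + 1)) * (2 ^ (2 * (m + 1)) - 1))) :=
          Nat.mul_lt_mul_of_pos_right ih (lt_of_lt_of_le (by norm_num) h1)
      _ ≤ 10 ^ (2 * (m + 1)) * (4 * (2 ^ ((m + 1) * m) * (2 ^ (m + 1 + 1) - 1) * P m 2)) *
          (10 ^ 2 * (2 ^ (2 * (m + 1)) * (2 ^ (2 * (m + 1)) - 1))) := by gcongr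
      _ = _ := by
          rw [P_succ, show (m + 1 + 1) * (m + 1) = (m + 1) * m + 2 * (m + 1) by ring, pow_add 2 ((m + 1) * m),
            show 2 * (m + 1 + 1) = 2 * (m + 1) + 2 by ring, pow_add 10 (2 * (m + 1)) 2]
          ring

/-! ### linear groups -/

/-- the order of `GL_n(q)` -/
def GLc (n q : ℕ) : ℕ := ∏ i : Fin n, (q ^ n - q ^ (i : ℕ))

theorem GLc_succ (n q : ℕ) : GLc (n + 1) q = q ^ n * (q ^ (n + 1) - 1) * GLc n q := by
  unfold GLc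
  rw [Fin.prod_univ_succ]
  have h1 : ∀ i : Fin n, q ^ (n + 1) - q ^ ((Fin.succ i : Fin (n + 1)) : ℕ) = q * (q ^ n - q ^ (i : ℕ)) := by
    intro i
    rw [Fin.val_succ, Nat.mul_sub, ← pow_succ', ← pow_succ']
  rw [Finset.prod_congr rfl fun i _ => h1 i, Finset.prod_mul_distrib, Finset.prod_const, Finset.card_univ,
    Fintype.card_fin, Fin.val_zero, pow_zero]
  ring

theorem GLc_two (q : ℕ) : GLc 2 q = (q ^ 2 - 1) * (q ^ 2 - q) := by
  simp [GLc, Fin.prod_univ_succ]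

theorem gl {q n : ℕ} (hq : 3 ≤ q) (hn : 3 ≤ n) : (4 * (q ^ 2 - 1)) ^ n < 4 * GLc n q := by
  induction n, hn using Nat.le_induction with
  | base =>
    rw [GLc_succ, GLc_two]
    have h1 : q ^ 2 - q = q * (q ^ 1 - 1) := by rw [Nat.mul_sub, pow_one, mul_one, sq]
    rw [h1, show 2 + 1 = 3 from rfl]
    zify
    rw [cs (by omega), cs (by omega), cs (by omega)]
    obtain ⟨r, rfl⟩ := Nat.exists_eq_add_of_le hq
    rw [← sub_pos]
    push_cast
    ring_nf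
    positivity
  | succ n hn ih =>
    have h1 : 4 * (q ^ 2 - 1) ≤ q ^ n * (q ^ (n + 1) - 1) := by
      have h3 : q ^ 3 ≤ q ^ n := Nat.pow_le_pow_right (by omega) hn
      have h4 : q ^ 2 ≤ q ^ (n + 1) := Nat.pow_le_pow_right (by omega) (by omega)
      have h5 : 4 ≤ q ^ 3 := by
        have : 3 ^ 3 ≤ q ^ 3 := Nat.pow_le_pow_left hq 3
        omega
      exact Nat.mul_le_mul (h5.trans h3) (Nat.sub_le_sub_right h4 1)
    have h0 : 0 < 4 * (q ^ 2 - 1) := by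
      have : 9 ≤ q ^ 2 := by nlinarith
      omega
    calc (4 * (q ^ 2 - 1)) ^ (n + 1) = (4 * (q ^ 2 - 1)) ^ n * (4 * (q ^ 2 - 1)) := pow_succ _ _
      _ ≤ (4 * (q ^ 2 - 1)) ^ n * (q ^ n * (q ^ (n + 1) - 1)) := Nat.mul_le_mul_left _ h1
      _ < 4 * GLc n q * (q ^ n * (q ^ (n + 1) - 1)) := Nat.mul_lt_mul_of_pos_right ih (lt_of_lt_of_le h0 h1)
      _ = _ := by rw [GLc_succ]; ring

theorem gl_two {n : ℕ} (hn : 4 ≤ n) : 121 ^ n < 10 ^ n * (4 * GLc n 2) := by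
  induction n, hn using Nat.le_induction with
  | base => rw [GLc_succ, GLc_succ, GLc_two]; norm_num
  | succ n hn ih =>
    have h1 : 121 ≤ 10 * (2 ^ n * (2 ^ (n + 1) - 1)) := by
      have h3 : 2 ^ 4 ≤ 2 ^ n := Nat.pow_le_pow_right (by omega) hn
      have h4 : 2 ^ 5 ≤ 2 ^ (n + 1) := Nat.pow_le_pow_right (by omega) (by omega)
      have h5 : 2 ^ 4 * (2 ^ 5 - 1) ≤ 2 ^ n * (2 ^ (n + 1) - 1) := Nat.mul_le_mul h3 (Nat.sub_le_sub_right h4 1)
      norm_num at h5 ⊢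
      omega
    calc 121 ^ (n + 1) = 121 ^ n * 121 := pow_succ _ _
      _ ≤ 121 ^ n * (10 * (2 ^ n * (2 ^ (n + 1) - 1))) := Nat.mul_le_mul_left _ h1
      _ < 10 ^ n * (4 * GLc n 2) * (10 * (2 ^ n * (2 ^ (n + 1) - 1))) :=
          Nat.mul_lt_mul_of_pos_right ih (lt_of_lt_of_le (by norm_num) h1)
      _ = _ := by rw [GLc_succ, pow_succ 10 n]; ring

/-! ### unitary groups -/

/-- the order of `GU_n(q)` -/
def U (n q : ℕ) : ℕ := q ^ (n * (n - 1) / 2) * ∏ i ∈ Finset.range n, (if Even i then q ^ (i + 1) + 1 else q ^ (i + 1) - 1)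

theorem U_succ (n q : ℕ) : U (n + 1) q = q ^ n * (if Even n then q ^ (n + 1) + 1 else q ^ (n + 1) - 1) * U n q := by
  unfold U
  rw [Nat.triangle_succ, Finset.prod_range_succ, pow_add]
  ring

theorem U_six (q : ℕ) : U 6 q = q ^ 15 * ((q ^ 1 + 1) * (q ^ 2 - 1) * (q ^ 3 + 1) * (q ^ 4 - 1) * (q ^ 5 + 1) * (q ^ 6 - 1)) := by
  unfold U
  simp only [Finset.prod_range_succ, Finset.prod_range_zero, one_mul]
  norm_num [Nat.even_iff]

theorem gu {q n : ℕ} (hq : 2 ≤ q) (hn : 6 ≤ n) : (4 * (q ^ 4 - 1)) ^ n < 4 * (q - 1) ^ 2 * U n q := by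
  induction n, hn using Nat.le_induction with
  | base =>
    rw [U_six]
    zify
    rw [cs (by omega), cs (by omega), cs (by omega), c1 (by omega)]
    obtain ⟨r, rfl⟩ := Nat.exists_eq_add_of_le hq
    rw [← sub_pos]
    push_cast
    ring_nf
    positivity
  | succ n hn ih =>
    have h0 : 0 < 4 * (q ^ 4 - 1) := by
      have : 2 ^ 4 ≤ q ^ 4 := Nat.pow_le_pow_left hq 4
      omega
    have h1 : 4 * (q ^ 4 - 1) ≤ q ^ n * (if Even n then q ^ (n + 1) + 1 else q ^ (n + 1) - 1) := by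
      have h3 : q ^ 6 ≤ q ^ n := Nat.pow_le_pow_right (by omega) hn
      have h5 : 4 * (q ^ 4 - 1) ≤ q ^ 6 := by
        calc 4 * (q ^ 4 - 1) ≤ q ^ 2 * q ^ 4 := Nat.mul_le_mul (by nlinarith) (Nat.sub_le _ _)
          _ = q ^ 6 := by ring
      have h6 : 1 ≤ (if Even n then q ^ (n + 1) + 1 else q ^ (n + 1) - 1) := by
        split_ifs
        · omega
        · have : 1 < q ^ (n + 1) := Nat.one_lt_pow (by omega) (by omega)
          omega
      calc 4 * (q ^ 4 - 1) ≤ q ^ n * 1 := by rw [mul_one]; exact h5.trans h3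
        _ ≤ _ := Nat.mul_le_mul_left _ h6
    calc (4 * (q ^ 4 - 1)) ^ (n + 1) = (4 * (q ^ 4 - 1)) ^ n * (4 * (q ^ 4 - 1)) := pow_succ _ _
      _ ≤ (4 * (q ^ 4 - 1)) ^ n * (q ^ n * (if Even n then q ^ (n + 1) + 1 else q ^ (n + 1) - 1)) :=
          Nat.mul_le_mul_left _ h1
      _ < 4 * (q - 1) ^ 2 * U n q * (q ^ n * (if Even n then q ^ (n + 1) + 1 else q ^ (n + 1) - 1)) :=
          Nat.mul_lt_mul_of_pos_right ih (lt_of_lt_of_le h0 h1)
      _ = _ := by rw [U_succ]; ring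

end Cfsg.Agent.H972.ClassNum
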