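import Mathlib
import Cfsg.Agent.H972.NilpGL

/-!
# Nilpotent `p'`-subgroups of `H / Z(H)`, `H ≤ GL_n(q)` (helper972)
-/

set_option autoImplicit false

namespace Cfsg.Agent.H972.NilpProj

open Subgroup

universe u v

variable {F : Type*} [Field F] [Finite F] {V : Type*} [AddCommGroup V] [Module F V] [Finite V] [Nontrivial V]
  {H : Type*} [Group H] [Finite H]

theorem exists_lift (f : H →* Module.End F V) (hf : Function.Injective f) {p : ℕ} [hp : Fact p.Prime] [CharP F p]
    (hZ : ¬ p ∣ Nat.card ↥(center H)) (N : Subgroup (H ⧸ center H)) (hN : Group.IsNilpotent ↥N)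
    (hpN : ¬ p ∣ Nat.card ↥N) :
    ∃ M : Subgroup (Module.End F V)ˣ, Group.IsNilpotent ↥M ∧ Finite ↥M ∧ ¬ p ∣ Nat.card ↥M ∧
      Nat.card ↥N * (Nat.card F - 1) ≤ Nat.card ↥M := by
  classical
  set L : Subgroup H := N.comap (QuotientGroup.mk' (center H)) with hL
  have hcardL : Nat.card ↥L = Nat.card ↥(center H) * Nat.card ↥N := by
    let g : ↥L →* ↥N := ((QuotientGroup.mk' (center H)).comp L.subtype).codRestrict N fun x => x.2
    have hg : Function.Surjective g := by
      rintro ⟨y, hy⟩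
      obtain ⟨x, rfl⟩ := QuotientGroup.mk_surjective y
      exact ⟨⟨x, hy⟩, rfl⟩
    have h1 := Nat.card_congr (QuotientGroup.quotientKerEquivOfSurjective g hg).toEquiv
    have h2 := Subgroup.card_eq_card_quotient_mul_card_subgroup g.ker
    have h3 : Nat.card ↥g.ker = Nat.card ↥(center H) := by
      refine Nat.card_congr (Equiv.ofBijective (fun x : ↥g.ker => (⟨(x : ↥L), ?_⟩ : ↥(center H))) ⟨?_, ?_⟩)
      · have h4 := congrArg Subtype.val (MonoidHom.mem_ker.1 x.2)
        exact (QuotientGroup.eq_one_iff _).1 h4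
      · intro x y hxy
        exact Subtype.ext (Subtype.ext (congrArg (fun z : ↥(center H) => (z : H)) hxy))
      · rintro ⟨z, hz⟩
        have hz1 : (QuotientGroup.mk' (center H)) z = 1 := (QuotientGroup.eq_one_iff _).2 hz
        refine ⟨⟨⟨z, ?_⟩, ?_⟩, rfl⟩
        · rw [hL, Subgroup.mem_comap, hz1]
          exact N.one_mem
        · rw [MonoidHom.mem_ker]
          exact Subtype.ext hz1
    rw [h2, h1, h3, mul_comm]
  have hLn : Group.IsNilpotent ↥L := by
    let g : ↥L →* ↥N := ((QuotientGroup.mk' (center H)).comp L.subtype).codRestrict N fun x => x.2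
    refine Subgroup.isNilpotent_of_ker_le_center g ?_
    intro x hx
    have h4 := congrArg Subtype.val (MonoidHom.mem_ker.1 hx)
    have h5 : (x : H) ∈ center H := (QuotientGroup.eq_one_iff _).1 h4
    rw [mem_center_iff]
    intro y
    exact Subtype.ext (mem_center_iff.1 h5 y)
  let fU : H →* (Module.End F V)ˣ := f.toHomUnits
  let sc : Fˣ →* (Module.End F V)ˣ := Units.map (algebraMap F (Module.End F V)).toMonoidHom
  have hcom : ∀ (x : ↥L) (c : Fˣ), Commute ((fU.comp L.subtype) x) (sc c) := by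
    intro x c
    apply Units.ext
    change f x * algebraMap F (Module.End F V) c = algebraMap F (Module.End F V) c * f x
    exact (Algebra.commutes _ _).symm
  let φ : ↥L × Fˣ →* (Module.End F V)ˣ := (fU.comp L.subtype).noncommCoprod sc hcom
  have hφ : ∀ x : ↥L × Fˣ, ((φ x : (Module.End F V)ˣ) : Module.End F V) = f x.1 * algebraMap F (Module.End F V) x.2 :=
    fun _ => rfl
  have hfinV : Finite (Module.End F V) := Finite.of_injective (fun x : Module.End F V => (x : V → V)) DFunLike.coe_injective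
  have hker : Nat.card ↥φ.ker ≤ Nat.card ↥(center H) := by
    have hz : ∀ x : ↥φ.ker, ((x : ↥L × Fˣ).1 : H) ∈ center H := by
      intro x
      have h1 : f ((x : ↥L × Fˣ).1 : H) * algebraMap F (Module.End F V) (x : ↥L × Fˣ).2 = 1 := by
        rw [← hφ, MonoidHom.mem_ker.1 x.2]
        rfl
      have h2 : f ((x : ↥L × Fˣ).1 : H) = algebraMap F (Module.End F V) (((x : ↥L × Fˣ).2⁻¹ : Fˣ) : F) := by
        calc f ((x : ↥L × Fˣ).1 : H) = f ((x : ↥L × Fˣ).1 : H) * (algebraMap F (Module.End F V) (x : ↥L × Fˣ).2 *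
              algebraMap F (Module.End F V) (((x : ↥L × Fˣ).2⁻¹ : Fˣ) : F)) := by
              rw [← map_mul, Units.mul_inv, map_one, mul_one]
          _ = _ := by rw [← mul_assoc, h1, one_mul]
      rw [mem_center_iff]
      intro g
      apply hf
      rw [map_mul, map_mul, h2]
      exact (Algebra.commutes _ _).symm
    refine Nat.card_le_card_of_injective (fun x => (⟨_, hz x⟩ : ↥(center H))) ?_
    intro x y hxy
    have h1 : ((x : ↥L × Fˣ).1 : H) = ((y : ↥L × Fˣ).1 : H) := congrArg (fun z : ↥(center H) => (z : H)) hxy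
    have hx := hφ x
    have hy := hφ y
    rw [MonoidHom.mem_ker.1 x.2] at hx
    rw [MonoidHom.mem_ker.1 y.2, ← h1, hx] at hy
    have hu : IsUnit (f ((x : ↥L × Fˣ).1 : H)) := (fU ((x : ↥L × Fˣ).1 : H)).isUnit
    have h2 := hu.mul_left_cancel hy
    have h3 := (FaithfulSMul.algebraMap_injective F (Module.End F V)) h2
    exact Subtype.ext (Prod.ext (Subtype.ext h1) (Units.ext h3))
  have hcardφ : Nat.card ↥L * (Nat.card F - 1) = Nat.card ↥φ.range * Nat.card ↥φ.ker := by
    have h1 := Nat.card_congr (QuotientGroup.quotientKerEquivRange φ).toEquiv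
    rw [← h1, ← Subgroup.card_eq_card_quotient_mul_card_subgroup, Nat.card_prod, Nat.card_units]
  have hZ0 : 0 < Nat.card ↥(center H) := Nat.card_pos
  refine ⟨φ.range, Group.nilpotent_of_surjective φ.rangeRestrict φ.rangeRestrict_surjective, inferInstance, ?_, ?_⟩
  · intro h
    have h1 : p ∣ Nat.card ↥L * (Nat.card F - 1) := by
      rw [hcardφ]
      exact h.mul_right _
    rcases (Nat.Prime.dvd_mul hp.1).1 h1 with h2 | h2
    · rw [hcardL] at h2
      rcases (Nat.Prime.dvd_mul hp.1).1 h2 with h3 | h3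
      · exact hZ h3
      · exact hpN h3
    · have : Fintype F := Fintype.ofFinite F
      obtain ⟨a, -, ha⟩ := FiniteField.card F p
      rw [Nat.card_eq_fintype_card, ha] at h2
      have h3 : p ∣ p ^ (a : ℕ) := dvd_pow_self p a.2.ne'
      have h4 : 1 ≤ p ^ (a : ℕ) := Nat.one_le_pow _ _ hp.1.pos
      have h5 : p ∣ 1 := by
        have h6 := (Nat.dvd_sub_iff_right h4 h3).1 h2
        exact h6
      exact hp.1.one_lt.ne' (Nat.dvd_one.1 h5)
  · have h1 : Nat.card ↥(center H) * (Nat.card ↥N * (Nat.card F - 1)) ≤ Nat.card ↥(center H) * Nat.card ↥φ.range := by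
      calc Nat.card ↥(center H) * (Nat.card ↥N * (Nat.card F - 1)) = Nat.card ↥φ.range * Nat.card ↥φ.ker := by
            rw [← hcardφ, hcardL]; ring
        _ ≤ Nat.card ↥φ.range * Nat.card ↥(center H) := Nat.mul_le_mul_left _ hker
        _ = _ := mul_comm _ _
    exact Nat.le_of_mul_le_mul_left h1 hZ0

/-- **Strong bound**, projective form, `q ≥ 3` -/
theorem sq_le (f : H →* Module.End F V) (hf : Function.Injective f) {p : ℕ} [hp : Fact p.Prime] [CharP F p]
    (hZ : ¬ p ∣ Nat.card ↥(center H)) (N : Subgroup (H ⧸ center H)) (hN : Group.IsNilpotent ↥N)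
    (hpN : ¬ p ∣ Nat.card ↥N) (hq : 3 ≤ Nat.card F) :
    (2 * (Nat.card ↥N * (Nat.card F - 1))) ^ 2 ≤ (4 * (Nat.card F ^ 2 - 1)) ^ Module.finrank F V := by
  obtain ⟨M, hM, hMf, hpM, hc⟩ := exists_lift f hf hZ N hN hpN
  have h1 := NilpGL.sq_le (F := F) (V := V) ((Units.coeHom (Module.End F V)).comp M.subtype)
    (Units.val_injective.comp M.subtype_injective) hpM hq
  exact (Nat.pow_le_pow_left (Nat.mul_le_mul_left 2 hc) 2).trans h1

/-- **Strong bound**, projective form, `q = 2` -/
theorem sq_le_two (f : H →* Module.End F V) (hf : Function.Injective f) {p : ℕ} [hp : Fact p.Prime] [CharP F p]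
    (hZ : ¬ p ∣ Nat.card ↥(center H)) (N : Subgroup (H ⧸ center H)) (hN : Group.IsNilpotent ↥N)
    (hpN : ¬ p ∣ Nat.card ↥N) (hq : Nat.card F = 2) :
    10 ^ Module.finrank F V * (2 * Nat.card ↥N) ^ 2 ≤ 121 ^ Module.finrank F V := by
  obtain ⟨M, hM, hMf, hpM, hc⟩ := exists_lift f hf hZ N hN hpN
  have h1 := NilpGL.sq_le_two (F := F) (V := V) ((Units.coeHom (Module.End F V)).comp M.subtype)
    (Units.val_injective.comp M.subtype_injective) hpM hq
  rw [hq] at hc
  refine le_trans (Nat.mul_le_mul_left _ (Nat.pow_le_pow_left (Nat.mul_le_mul_left 2 ?_) 2)) h1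
  simpa using hc

end Cfsg.Agent.H972.NilpProj
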