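import Mathlib
import Cfsg.Agent.H972.NSm
import Cfsg.Agent.H972.NilpProj
import Cfsg.Agent.H972.ClassNum
import Cfsg.Agent.S0243
import Cfsg.Agent.S0246
import Cfsg.Agent.S0279
import Cfsg.Agent.S0280
import Cfsg.Agent.S0292
import Cfsg.Agent.S0293
import Cfsg.Agent.S0294
import Cfsg.Agent.LieClassical.SympCenter
import Cfsg.Agent.LieClassical.OmegaCenter
import Cfsg.Agent.OddHalf.Orders.PSpFi23

/-!
# Nilpotent `p'`-subgroups of the classical groups in characteristic `p` (helper972, for S2242)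
-/

set_option autoImplicit false

namespace Cfsg.Agent.H972.ClassOff

open Subgroup NSm ClassNum

section General

variable {F : Type*} [Field F] [Fintype F] {ι : Type*} [Fintype ι] [DecidableEq ι] [Nonempty ι]
  {H : Type*} [Group H] [Finite H]

omit [Fintype F] in
/-- a finite matrix group whose centre consists of scalars has centre of order prime to `p` -/
theorem center_coprime (f : H →* Matrix ι ι F) (hf : Function.Injective f) {p : ℕ} [hp : Fact p.Prime] [CharP F p]
    (hs : ∀ z ∈ center H, ∃ c : F, f z = c • (1 : Matrix ι ι F)) : ¬ p ∣ Nat.card ↥(center H) := by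
  intro hd
  obtain ⟨z, hz⟩ := exists_prime_orderOf_dvd_card' p hd
  obtain ⟨c, hc⟩ := hs z z.2
  have h1 : (z : H) ^ p = 1 := by
    have := pow_orderOf_eq_one z
    rw [hz] at this
    exact congrArg Subtype.val this
  have h2 : f (z : H) ^ p = 1 := by rw [← map_pow, h1, map_one]
  rw [hc, smul_pow, one_pow] at h2
  obtain ⟨i⟩ : Nonempty ι := inferInstance
  have h3 : c ^ p = 1 := by
    have := congrFun (congrFun h2 i) i
    simpa using this
  have h4 : (c - 1) ^ p = 0 := by
    rw [sub_pow_char, h3, one_pow, sub_self]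
  have h5 : c = 1 := sub_eq_zero.1 ((pow_eq_zero_iff hp.1.ne_zero).1 h4)
  have h6 : (z : H) = 1 := hf (by rw [hc, h5, one_smul, map_one])
  have h7 : z = 1 := Subtype.ext h6
  rw [h7, orderOf_one] at hz
  exact hp.1.one_lt.ne hz

theorem off (f : H →* Matrix ι ι F) (hf : Function.Injective f) {p : ℕ} [hp : Fact p.Prime] [CharP F p]
    (hs : ∀ z ∈ center H, ∃ c : F, f z = c • (1 : Matrix ι ι F)) (hq : 3 ≤ Fintype.card F)
    (hnum : (4 * (Fintype.card F ^ 2 - 1)) ^ Fintype.card ι < 4 * (Fintype.card F - 1) ^ 2 * Nat.card (H ⧸ center H)) :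
    SmallOff p (H ⧸ center H) := by
  intro N hN hpN
  let f' : H →* Module.End F (ι → F) := (Matrix.toLinAlgEquiv' (R := F) (n := ι)).toAlgHom.toRingHom.toMonoidHom.comp f
  have hf' : Function.Injective f' := (Matrix.toLinAlgEquiv' (R := F) (n := ι)).injective.comp hf
  have h1 := NilpProj.sq_le (F := F) (V := ι → F) f' hf' (center_coprime f hf hs) N hN hpN
    (by rw [Nat.card_eq_fintype_card]; exact hq)
  rw [Module.finrank_pi, Nat.card_eq_fintype_card (α := F)] at h1
  have h2 := h1.trans_lt hnum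
  have h3 : 0 < 4 * (Fintype.card F - 1) ^ 2 := by
    have : 0 < Fintype.card F - 1 := by omega
    positivity
  refine Nat.lt_of_mul_lt_mul_left (a := 4 * (Fintype.card F - 1) ^ 2) ?_
  calc 4 * (Fintype.card F - 1) ^ 2 * Nat.card ↥N ^ 2 = (2 * (Nat.card ↥N * (Fintype.card F - 1))) ^ 2 := by ring
    _ < _ := h2

theorem off_two (f : H →* Matrix ι ι F) (hf : Function.Injective f) {p : ℕ} [hp : Fact p.Prime] [CharP F p]
    (hs : ∀ z ∈ center H, ∃ c : F, f z = c • (1 : Matrix ι ι F)) (hq : Fintype.card F = 2)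
    (hnum : 121 ^ Fintype.card ι < 10 ^ Fintype.card ι * (4 * Nat.card (H ⧸ center H))) :
    SmallOff p (H ⧸ center H) := by
  intro N hN hpN
  let f' : H →* Module.End F (ι → F) := (Matrix.toLinAlgEquiv' (R := F) (n := ι)).toAlgHom.toRingHom.toMonoidHom.comp f
  have hf' : Function.Injective f' := (Matrix.toLinAlgEquiv' (R := F) (n := ι)).injective.comp hf
  have h1 := NilpProj.sq_le_two (F := F) (V := ι → F) f' hf' (center_coprime f hf hs) N hN hpN
    (by rw [Nat.card_eq_fintype_card]; exact hq)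
  rw [Module.finrank_pi] at h1
  have h2 := h1.trans_lt hnum
  have h3 := Nat.lt_of_mul_lt_mul_left h2
  refine Nat.lt_of_mul_lt_mul_left (a := 4) ?_
  calc 4 * Nat.card ↥N ^ 2 = (2 * Nat.card ↥N) ^ 2 := by ring
    _ < _ := h3

end General

theorem le_of_prime_two {F : Type*} [Field F] [Fintype F] : 2 ≤ Fintype.card F := Fintype.one_lt_card

/-! ### linear groups -/

section PSL

variable {F : Type*} [Field F] [Fintype F] {n : ℕ} {p : ℕ} [hp : Fact p.Prime] [CharP F p]

/-- the inclusion of `SL_n` in the matrices -/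
def slMat (n : ℕ) (F : Type*) [Field F] : Matrix.SpecialLinearGroup (Fin n) F →* Matrix (Fin n) (Fin n) F where
  toFun A := A.1
  map_one' := rfl
  map_mul' _ _ := rfl

omit [Fintype F] in
theorem slMat_injective : Function.Injective (slMat n F) := fun _ _ h => Subtype.ext h

omit [Fintype F] in
theorem sl_center {z : Matrix.SpecialLinearGroup (Fin n) F} (hz : z ∈ center (Matrix.SpecialLinearGroup (Fin n) F)) :
    ∃ c : F, slMat n F z = c • (1 : Matrix (Fin n) (Fin n) F) := by
  obtain ⟨r, -, hr⟩ := Matrix.SpecialLinearGroup.mem_center_iff.1 hz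
  refine ⟨r, ?_⟩
  change z.1 = _
  rw [← hr, Matrix.scalar_apply, Matrix.smul_one_eq_diagonal]

theorem off_PSL (hn : 3 ≤ n) (hq : 3 ≤ Fintype.card F) : SmallOff p (Matrix.ProjectiveSpecialLinearGroup (Fin n) F) := by
  have hne : Nonempty (Fin n) := ⟨⟨0, by omega⟩⟩
  refine off (slMat n F) slMat_injective (fun z hz => sl_center hz) hq ?_
  have h1 := S0243.result (F := F) rfl n (by omega)
  have h2 := gl hq hn
  have h3 : Nat.gcd n (Fintype.card F - 1) ≤ Fintype.card F - 1 := Nat.gcd_le_right _ (by omega)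
  rw [Fintype.card_fin]
  calc (4 * (Fintype.card F ^ 2 - 1)) ^ n < 4 * GLc n (Fintype.card F) := h2
    _ = 4 * (Nat.gcd n (Fintype.card F - 1) * ((Fintype.card F - 1) *
        Nat.card (Matrix.ProjectiveSpecialLinearGroup (Fin n) F))) := by rw [h1]; rfl
    _ ≤ 4 * ((Fintype.card F - 1) * ((Fintype.card F - 1) *
        Nat.card (Matrix.ProjectiveSpecialLinearGroup (Fin n) F))) := by gcongr
    _ = _ := by rw [sq]; simp only [mul_assoc]

theorem off_PSL_two (hn : 4 ≤ n) (hq : Fintype.card F = 2) : SmallOff p (Matrix.ProjectiveSpecialLinearGroup (Fin n) F) := by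
  have hne : Nonempty (Fin n) := ⟨⟨0, by omega⟩⟩
  refine off_two (slMat n F) slMat_injective (fun z hz => sl_center hz) hq ?_
  have h1 := S0243.result (F := F) hq n (by omega)
  have h2 := gl_two hn
  rw [Fintype.card_fin]
  rw [show 2 - 1 = 1 by norm_num, Nat.gcd_one_right, one_mul, one_mul] at h1
  calc 121 ^ n < 10 ^ n * (4 * GLc n 2) := h2
    _ = _ := by rw [GLc, ← h1]

theorem off_PSL2 (hq : Fintype.card F = 8 ∨ 11 ≤ Fintype.card F) :
    SmallOff p (Matrix.ProjectiveSpecialLinearGroup (Fin 2) F) := by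
  have hne : Nonempty (Fin 2) := ⟨0⟩
  refine off (slMat 2 F) slMat_injective (fun z hz => sl_center hz) (by omega) ?_
  have h1 := S0243.result (F := F) rfl 2 le_rfl
  have h2 : ∏ i : Fin 2, (Fintype.card F ^ 2 - Fintype.card F ^ (i : ℕ)) =
      (Fintype.card F ^ 2 - 1) * (Fintype.card F ^ 2 - Fintype.card F) := by simp [Fin.prod_univ_succ]
  rw [h2] at h1
  rw [Fintype.card_fin]
  change (4 * (Fintype.card F ^ 2 - 1)) ^ 2 < 4 * (Fintype.card F - 1) ^ 2 *
    Nat.card (Matrix.ProjectiveSpecialLinearGroup (Fin 2) F)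
  generalize Nat.card (Matrix.ProjectiveSpecialLinearGroup (Fin 2) F) = C at h1 ⊢
  rcases hq with hq | hq
  · rw [hq] at h1 ⊢
    norm_num at h1 ⊢
    omega
  · obtain ⟨r, hr⟩ := Nat.exists_eq_add_of_le hq
    rw [hr] at h1 ⊢
    have e1 : 11 + r - 1 = r + 10 := by omega
    have e2 : (11 + r) ^ 2 - 1 = (r + 10) * (r + 12) := by
      have : (11 + r) ^ 2 = (r + 10) * (r + 12) + 1 := by ring
      omega
    have e3 : (11 + r) ^ 2 - (11 + r) = (r + 10) * (r + 11) := by
      have : (11 + r) ^ 2 = (r + 10) * (r + 11) + (11 + r) := by ring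
      omega
    rw [e1, e2, e3] at h1
    rw [e1, e2]
    have hg : Nat.gcd 2 (r + 10) ≤ 2 := Nat.gcd_le_left _ (by norm_num)
    have h3 : (r + 10) * ((r + 12) * ((r + 10) * (r + 11))) ≤ (r + 10) * (2 * C) := by
      calc (r + 10) * ((r + 12) * ((r + 10) * (r + 11))) = (r + 10) * (r + 12) * ((r + 10) * (r + 11)) := by ring
        _ = Nat.gcd 2 (r + 10) * ((r + 10) * C) := h1.symm
        _ ≤ 2 * ((r + 10) * C) := Nat.mul_le_mul_right _ hg
        _ = _ := by ring
    have h4 := Nat.le_of_mul_le_mul_left h3 (by omega)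
    have h5 : 8 * (r + 12) < (r + 10) * (r + 11) := by nlinarith
    have h6 : 0 < (r + 10) * ((r + 10) * (r + 12)) := by positivity
    calc (4 * ((r + 10) * (r + 12))) ^ 2 = 2 * (r + 10) * ((r + 10) * (r + 12)) * (8 * (r + 12)) := by ring
      _ < 2 * (r + 10) * ((r + 10) * (r + 12)) * ((r + 10) * (r + 11)) := by
          refine Nat.mul_lt_mul_of_pos_left h5 (by positivity)
      _ = 2 * (r + 10) ^ 2 * ((r + 12) * ((r + 10) * (r + 11))) := by ring
      _ ≤ 2 * (r + 10) ^ 2 * (2 * C) := Nat.mul_le_mul_left _ h4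
      _ = _ := by ring

theorem off_PSL2_seven (hq : Fintype.card F = 7) (hp7 : p = 7) :
    SmallOff p (Matrix.ProjectiveSpecialLinearGroup (Fin 2) F) := by
  have hcard : Nat.card (Matrix.ProjectiveSpecialLinearGroup (Fin 2) F) = 168 := by
    have h1 := S0243.result (F := F) hq 2 le_rfl
    have h2 : ∏ i : Fin 2, (7 ^ 2 - 7 ^ (i : ℕ)) = 2016 := by simp [Fin.prod_univ_succ]
    rw [h2] at h1
    norm_num at h1
    omega
  intro N hN hpN
  let f' : Matrix.SpecialLinearGroup (Fin 2) F →* Module.End F (Fin 2 → F) :=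
    (Matrix.toLinAlgEquiv' (R := F) (n := Fin 2)).toAlgHom.toRingHom.toMonoidHom.comp (slMat 2 F)
  have hf' : Function.Injective f' := (Matrix.toLinAlgEquiv' (R := F) (n := Fin 2)).injective.comp slMat_injective
  have h1 := NilpProj.sq_le (F := F) (V := Fin 2 → F) f' hf'
    (center_coprime (slMat 2 F) slMat_injective (fun z hz => sl_center hz)) N hN hpN
    (by rw [Nat.card_eq_fintype_card, hq]; norm_num)
  rw [Module.finrank_pi, Nat.card_eq_fintype_card (α := F), hq, Fintype.card_fin] at h1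
  norm_num at h1
  have h2 : Nat.card ↥N ∣ 168 := by
    rw [← hcard]
    exact Subgroup.card_subgroup_dvd_card N
  rw [hcard]
  rw [hp7] at hpN
  have h3 : 2 * (Nat.card ↥N * 6) ≤ 192 := by
    by_contra h
    push Not at h
    nlinarith
  generalize Nat.card ↥N = x at *
  have h4 : x ≤ 16 := by omega
  interval_cases x <;> omega

end PSL

/-! ### symplectic groups -/

section PSp

variable {F : Type*} [Field F] [Fintype F] {m : ℕ} {p : ℕ} [hp : Fact p.Prime] [CharP F p]

/-- the inclusion of `Sp_2m` in the matrices -/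
def spMat (m : ℕ) (F : Type*) [Field F] : ↥(Matrix.symplecticGroup (Fin m) F) →* Matrix (Fin m ⊕ Fin m) (Fin m ⊕ Fin m) F :=
  (Matrix.symplecticGroup (Fin m) F).subtype

omit [Fintype F] in
theorem spMat_injective : Function.Injective (spMat m F) := fun _ _ h => Subtype.ext h

theorem off_PSp (hm : 3 ≤ m) : SmallOff p (PSp m F) := by
  have hne : Nonempty (Fin m ⊕ Fin m) := ⟨Sum.inl ⟨0, by omega⟩⟩
  have hs : ∀ z ∈ center ↥(Matrix.symplecticGroup (Fin m) F), ∃ c : F, spMat m F z = c • (1 : Matrix _ _ F) :=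
    fun z hz => (LieClassical.SympCenter.mem_center_iff m z).1 hz
  have h1 := OddHalf.Orders.card_psp (F := F) m (by omega)
  rw [OddHalf.Orders.spDen, OddHalf.Orders.sp, ← OddHalf.Orders.prod_range_list] at h1
  have hcard : Fintype.card (Fin m ⊕ Fin m) = 2 * m := by simp; ring
  have hfin : Finite ↥(Matrix.symplecticGroup (Fin m) F) := Finite.of_injective _ (spMat_injective (m := m) (F := F))
  rcases Nat.lt_or_ge (Fintype.card F) 3 with hq | hq
  · have hq2 : Fintype.card F = 2 := by
      have := Fintype.one_lt_card (α := F)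
      omega
    refine off_two (spMat m F) spMat_injective hs hq2 ?_
    rw [hcard]
    rw [hq2, show 2 - 1 = 1 by norm_num, Nat.gcd_one_right, one_mul] at h1
    exact (star_two hm).trans_eq (by rw [← h1.symm]; rfl)
  · refine off (spMat m F) spMat_injective hs hq ?_
    rw [hcard]
    have h2 := star hq hm
    have h3 : Nat.gcd 2 (Fintype.card F - 1) ≤ 2 := Nat.gcd_le_left _ (by norm_num)
    change _ < _ * Nat.card (PSp m F)
    generalize Nat.card (PSp m F) = C at h1 ⊢
    have h4 : Fintype.card F ^ m ^ 2 * P m (Fintype.card F) ≤ 2 * C := by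
      rw [P, ← h1]
      exact Nat.mul_le_mul_right _ h3
    have h5 := h2.trans_le (Nat.mul_le_mul_left _ h4)
    have h6 : (4 * (Fintype.card F ^ 2 - 1)) ^ (2 * m) < (Fintype.card F - 1) * C := by
      have h7 : 2 * ((4 * (Fintype.card F ^ 2 - 1)) ^ (2 * m)) ≤ 2 * (Fintype.card F + 1) *
          (4 * (Fintype.card F ^ 2 - 1)) ^ (2 * m) := Nat.mul_le_mul_right _ (by omega)
      have h8 := h7.trans_lt h5
      have h9 : (Fintype.card F - 1) * (2 * C) = 2 * ((Fintype.card F - 1) * C) := by ring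
      omega
    refine h6.trans_le (Nat.mul_le_mul_right _ ?_)
    nlinarith [Nat.le_self_pow (two_ne_zero) (Fintype.card F - 1)]

end PSp

/-! ### unitary groups -/

section PSU

variable {F : Type*} [Field F] [Fintype F] {n q : ℕ} {p : ℕ} [hp : Fact p.Prime] [CharP F p]

/-- the inclusion of `SU_n` in the matrices -/
def suMat (n : ℕ) (F : Type*) [Field F] (q : ℕ) : ↥(SU n F q) →* Matrix (Fin n) (Fin n) F := (slMat n F).comp (SU n F q).subtype

omit [Fintype F] in
theorem suMat_injective : Function.Injective (suMat n F q) := slMat_injective.comp (SU n F q).subtype_injective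

theorem off_PSU (hF : Fintype.card F = q ^ 2) (hn : 6 ≤ n) : SmallOff p (PSU n F q) := by
  have hne : Nonempty (Fin n) := ⟨⟨0, by omega⟩⟩
  have hq2 : 2 ≤ q := by
    have h1 := Fintype.one_lt_card (α := F)
    rw [hF] at h1
    by_contra h
    interval_cases q <;> simp at h1
  have hs : ∀ z ∈ center ↥(SU n F q), ∃ c : F, suMat n F q z = c • (1 : Matrix _ _ F) := by
    intro z hz
    obtain ⟨c, hcn, hcq, rfl⟩ := (LieClassical.SUBasic.mem_center_SU_iff hF (by omega) z).1 hz
    refine ⟨c, ?_⟩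
    rw [Matrix.smul_one_eq_diagonal]
    rfl
  refine off (suMat n F q) suMat_injective hs (by rw [hF]; nlinarith) ?_
  have h1 := S0280.result hF n (by omega)
  have h2 := gu hq2 hn
  have h3 : Nat.gcd n (q + 1) ≤ q + 1 := Nat.gcd_le_right _ (by omega)
  rw [Fintype.card_fin, hF]
  change _ < _ * Nat.card (PSU n F q)
  have e1 : (q ^ 2) ^ 2 - 1 = q ^ 4 - 1 := by rw [← pow_mul]
  have e2 : q ^ 2 - 1 = (q - 1) * (q + 1) := by
    obtain ⟨r, rfl⟩ := Nat.exists_eq_add_of_le hq2
    have : (2 + r) ^ 2 = (2 + r - 1) * (2 + r + 1) + 1 := by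
      rw [show 2 + r - 1 = r + 1 by omega]; ring
    omega
  rw [e1, e2]
  calc (4 * (q ^ 4 - 1)) ^ n < 4 * (q - 1) ^ 2 * ClassNum.U n q := h2
    _ = 4 * (q - 1) ^ 2 * (Nat.gcd n (q + 1) * ((q + 1) * Nat.card (PSU n F q))) := by rw [h1]; rfl
    _ ≤ 4 * (q - 1) ^ 2 * ((q + 1) * ((q + 1) * Nat.card (PSU n F q))) := by gcongr
    _ = _ := by ring

end PSU

/-! ### orthogonal groups -/

section POmega

open LieClassical.OmegaCenter LieClassical.OmegaReindex

variable {F : Type*} [Field F] [Fintype F] {p : ℕ} [hp : Fact p.Prime] [CharP F p]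

/-- the inclusion of `Ω` in the matrices -/
def omMat {ι : Type} [Fintype ι] [DecidableEq ι] (F : Type*) [Field F] (Q : (ι → F) → F) :
    ↥(Omega F Q) →* Matrix ι ι F :=
  (Units.coeHom (Matrix ι ι F)).comp ((isometryGroup F Q).subtype.comp (Omega F Q).subtype)

omit [Fintype F] in
theorem omMat_injective {ι : Type} [Fintype ι] [DecidableEq ι] {Q : (ι → F) → F} : Function.Injective (omMat F Q) :=
  Units.val_injective.comp ((isometryGroup F Q).subtype_injective.comp (Omega F Q).subtype_injective)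

omit [Fintype F] in
theorem om_center {ι : Type} [Fintype ι] [DecidableEq ι] (Q : QuadraticForm F (ι → F))
    (hQ : (QuadraticMap.polarBilin Q).Nondegenerate) (hn : 3 ≤ Fintype.card ι)
    (hs : ∃ u : ι → F, u ≠ 0 ∧ Q u = 0) (z : ↥(Omega F (⇑Q))) (hz : z ∈ center ↥(Omega F (⇑Q))) :
    ∃ c : F, omMat F (⇑Q) z = c • (1 : Matrix ι ι F) := by
  rcases (mem_center_omega_iff Q hQ hn hs z).1 hz with h | h
  · exact ⟨1, by rw [one_smul]; exact h⟩
  · exact ⟨-1, by rw [neg_smul, one_smul]; exact h⟩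

theorem off_POmegaOdd {m : ℕ} (hm : 3 ≤ m) (hodd : Odd (Fintype.card F)) :
    SmallOff p (POmega F (quadFormOdd m F)) := by
  have hne : Nonempty (Unit ⊕ (Fin m ⊕ Fin m)) := ⟨Sum.inl ()⟩
  have h2 : (2 : F) ≠ 0 := by
    intro h
    have h' : (ringChar F) = 2 := by
      have hd : ringChar F ∣ 2 := (ringChar.spec F 2).1 (by exact_mod_cast h)
      rcases (Nat.dvd_prime Nat.prime_two).1 hd with h1 | h1
      · exact absurd h1 (CharP.ringChar_ne_one)
      · exact h1
    have heven := FiniteField.even_card_of_char_two h'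
    have := Nat.odd_iff.1 hodd
    omega
  have hq : 3 ≤ Fintype.card F := by
    have h1 := Fintype.one_lt_card (α := F)
    have := Nat.odd_iff.1 hodd
    omega
  have hQ := S0292.oddForm_nondegenerate (F := F) h2 m
  have hcard : Fintype.card (Unit ⊕ (Fin m ⊕ Fin m)) = 2 * m + 1 := by
    simp
    ring
  have hs := om_center (LieClassical.QuadForms.oddForm m F) hQ (by omega) (S0292.exists_singular (by omega))
  rw [LieClassical.QuadForms.coe_oddForm] at hs
  refine off (omMat F (quadFormOdd m F)) omMat_injective hs hq ?_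
  have h1 := S0292.result (F := F) rfl hodd m hm
  have h3 := star hq hm
  rw [hcard]
  change _ < _ * Nat.card (POmega F (quadFormOdd m F))
  generalize Nat.card (POmega F (quadFormOdd m F)) = C at h1 ⊢
  rw [P, ← h1] at h3
  have e2 : Fintype.card F ^ 2 - 1 = (Fintype.card F - 1) * (Fintype.card F + 1) := by
    obtain ⟨r, hr⟩ := Nat.exists_eq_add_of_le hq
    rw [hr]
    have : (3 + r) ^ 2 = (3 + r - 1) * (3 + r + 1) + 1 := by
      rw [show 3 + r - 1 = r + 2 by omega]; ring
    omega
  have h4 : (Fintype.card F + 1) * (4 * (Fintype.card F ^ 2 - 1)) ^ (2 * m) < (Fintype.card F - 1) * C := by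
    have h9 : (Fintype.card F - 1) * (2 * C) = 2 * ((Fintype.card F - 1) * C) := by ring
    have h10 : 2 * (Fintype.card F + 1) * (4 * (Fintype.card F ^ 2 - 1)) ^ (2 * m) =
      2 * ((Fintype.card F + 1) * (4 * (Fintype.card F ^ 2 - 1)) ^ (2 * m)) := by ring
    omega
  have h5 : 0 < 4 * (Fintype.card F - 1) := by omega
  calc (4 * (Fintype.card F ^ 2 - 1)) ^ (2 * m + 1)
      = 4 * (Fintype.card F - 1) * ((Fintype.card F + 1) * (4 * (Fintype.card F ^ 2 - 1)) ^ (2 * m)) := by
        rw [pow_succ]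
        nth_rewrite 2 [e2]
        ring
    _ < 4 * (Fintype.card F - 1) * ((Fintype.card F - 1) * C) := Nat.mul_lt_mul_of_pos_left h4 h5
    _ = _ := by ring

theorem off_POmegaPlus {m : ℕ} (hm : 4 ≤ m) : SmallOff p (POmega F (quadFormPlus m F)) := by
  have hne : Nonempty (Fin m ⊕ Fin m) := ⟨Sum.inl ⟨0, by omega⟩⟩
  have hcard : Fintype.card (Fin m ⊕ Fin m) = 2 * m := by simp; ring
  have hs := om_center (quadPlus m F) quadPlus_nondegenerate (by omega) (quadPlus_isotropic (m := m) (F := F) (by omega))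
  rw [coe_quadPlus] at hs
  have h1 := S0293.result (F := F) rfl m hm
  rcases Nat.lt_or_ge (Fintype.card F) 3 with hq | hq
  · have hq2 : Fintype.card F = 2 := by
      have := Fintype.one_lt_card (α := F)
      omega
    refine off_two (omMat F (quadFormPlus m F)) omMat_injective hs hq2 ?_
    rw [hcard]
    have h3 : Nat.gcd 4 (2 ^ m - 1) = 1 := by
      rw [Nat.gcd_comm]
      refine Nat.Coprime.pow_right 2 (k := 2 ^ m - 1) (m := 2) ?_
      rw [Nat.coprime_two_right, Nat.odd_iff]
      have : 2 ^ m = 2 * 2 ^ (m - 1) := by rw [← pow_succ']; congr 1; omega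
      have := Nat.one_le_two_pow (n := m - 1)
      omega
    rw [hq2, h3, one_mul] at h1
    exact (plus_two hm).trans_eq (by rw [P, ← h1])
  · refine off (omMat F (quadFormPlus m F)) omMat_injective hs hq ?_
    rw [hcard]
    have h2 := plus hq hm
    have h3 : Nat.gcd 4 (Fintype.card F ^ m - 1) ≤ 4 := Nat.gcd_le_left _ (by norm_num)
    change _ < _ * Nat.card (POmega F (quadFormPlus m F))
    rw [P, ← h1] at h2
    refine h2.trans_le ?_
    calc (Fintype.card F - 1) ^ 2 * (Nat.gcd 4 (Fintype.card F ^ m - 1) * Nat.card (POmega F (quadFormPlus m F)))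
        ≤ (Fintype.card F - 1) ^ 2 * (4 * Nat.card (POmega F (quadFormPlus m F))) := by gcongr
      _ = _ := by ring

theorem off_POmegaMinus {m : ℕ} (hm : 4 ≤ m) (a b : F)
    (hab : ∀ z₁ z₂ : F, z₁ ^ 2 + a * z₁ * z₂ + b * z₂ ^ 2 = 0 → z₁ = 0 ∧ z₂ = 0) :
    SmallOff p (POmega F (quadFormMinus (m - 1) F a b)) := by
  have hne : Nonempty ((Fin (m - 1) ⊕ Fin (m - 1)) ⊕ Fin 2) := ⟨Sum.inr 0⟩
  have hcard : Fintype.card ((Fin (m - 1) ⊕ Fin (m - 1)) ⊕ Fin 2) = 2 * m := by
    simp only [Fintype.card_sum, Fintype.card_fin]; omega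
  have hs := om_center (quadMinus (m - 1) F a b) (quadMinus_nondegenerate hab) (by omega)
    (quadMinus_isotropic (m := m - 1) (F := F) (by omega) a b)
  rw [coe_quadMinus] at hs
  have h1 := S0294.result (F := F) rfl m hm a b hab
  rcases Nat.lt_or_ge (Fintype.card F) 3 with hq | hq
  · have hq2 : Fintype.card F = 2 := by
      have := Fintype.one_lt_card (α := F)
      omega
    refine off_two (omMat F (quadFormMinus (m - 1) F a b)) omMat_injective hs hq2 ?_
    rw [hcard]
    have h3 : Nat.gcd 4 (2 ^ m + 1) = 1 := by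
      rw [Nat.gcd_comm]
      refine Nat.Coprime.pow_right 2 (k := 2 ^ m + 1) (m := 2) ?_
      rw [Nat.coprime_two_right, Nat.odd_iff]
      have : 2 ^ m = 2 * 2 ^ (m - 1) := by rw [← pow_succ']; congr 1; omega
      omega
    rw [hq2, h3, one_mul] at h1
    refine (plus_two hm).trans_le (Nat.mul_le_mul_left _ (Nat.mul_le_mul_left _ ?_))
    change _ ≤ Nat.card (POmega F (quadFormMinus (m - 1) F a b))
    rw [h1, P]
    exact Nat.mul_le_mul_right _ (Nat.mul_le_mul_left _ ((Nat.sub_le _ _).trans (Nat.le_succ _)))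
  · refine off (omMat F (quadFormMinus (m - 1) F a b)) omMat_injective hs hq ?_
    rw [hcard]
    have h2 := plus hq hm
    have h3 : Nat.gcd 4 (Fintype.card F ^ m + 1) ≤ 4 := Nat.gcd_le_left _ (by norm_num)
    change _ < _ * Nat.card (POmega F (quadFormMinus (m - 1) F a b))
    refine h2.trans_le ?_
    calc (Fintype.card F - 1) ^ 2 * (Fintype.card F ^ (m * (m - 1)) * (Fintype.card F ^ m - 1) * P (m - 1) (Fintype.card F))
        ≤ (Fintype.card F - 1) ^ 2 * (Fintype.card F ^ (m * (m - 1)) * (Fintype.card F ^ m + 1) *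
          P (m - 1) (Fintype.card F)) := by gcongr; omega
      _ = (Fintype.card F - 1) ^ 2 * (Nat.gcd 4 (Fintype.card F ^ m + 1) *
          Nat.card (POmega F (quadFormMinus (m - 1) F a b))) := by rw [h1]; rfl
      _ ≤ (Fintype.card F - 1) ^ 2 * (4 * Nat.card (POmega F (quadFormMinus (m - 1) F a b))) := by gcongr
      _ = _ := by ring

end POmega

end Cfsg.Agent.H972.ClassOff
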