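import Mathlib
import Cfsg.Agent.H972.LieSmall
import Cfsg.Agent.H270.NS.Tits
import Cfsg.Agent.H875.NilMathieu
import Cfsg.Agent.H831.SmallCoOne
import Cfsg.Agent.H831.SmallCoTwo
import Cfsg.Agent.H831.SmallCoThree
import Cfsg.Agent.H199.NSmFi22
import Cfsg.Agent.H199.NSmFi23
import Cfsg.Agent.H199.NSmFi24
import Cfsg.Agent.H805.NilJanko
import Cfsg.Agent.H805.NilJ4
import Cfsg.Agent.H805.NilHS
import Cfsg.Agent.H805.NilRu
import Cfsg.Agent.H805.NilSuz
import Cfsg.Agent.H805.NilMcL
import Cfsg.Agent.H805.NilHe
import Cfsg.Agent.H805.NilON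
import Cfsg.Agent.H513.NilpLy
import Cfsg.Agent.H513.NilpHN
import Cfsg.Agent.H513.NilpTh
import Cfsg.Agent.H199.NSmB

/-!
# Nilpotent subgroups of the known simple groups (helper972, for S2242)
-/

set_option autoImplicit false

namespace Cfsg.Agent.H972.Final

open Subgroup

universe u

theorem small_exceptional {G : Type u} [Group G] [Finite G] [IsSimpleGroup G] (hG : ¬ IsMulCommutative G)
    (h : Cfsg.IsExceptionalLieType G) : NSm.Small G := by
  rcases h with h | h | h | h | h | h | h | h | h | h | h
  · exact LieSmall.small_of_exc hG (H270.NS.off_G2 h)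
  · exact LieSmall.small_of_exc hG (H118.NilpOff.off_F4 h)
  · exact LieSmall.small_of_exc hG (H118.NilpOff.off_E6 h)
  · exact LieSmall.small_of_exc hG (H118.NilpOff.off_E7 h)
  · exact LieSmall.small_of_exc hG (H118.NilpOff.off_E8 h)
  · exact LieSmall.small_of_exc hG (H118.NilpOff.off_2E6 h)
  · exact LieSmall.small_of_exc hG (H270.NS.off_3D4 h)
  · exact LieSmall.small_of_exc hG (H71.SmallOff.off_Suz h)
  · exact LieSmall.small_of_exc hG (H71.SmallOff.off_Ree h)
  · exact LieSmall.small_of_exc hG (H71.SmallOff.off_2F4 h)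
  · exact H270.NS.Tits.small_Tits h

theorem small_sporadic {G : Type u} [Group G] [Finite G] (h : Cfsg.IsSporadicGroup G)
    (hI : ∀ (H : Type u) [Group H] [Finite H], IsSimpleGroup H → ¬ IsMulCommutative H → Nat.card H < Nat.card G →
      NSm.Small H) : NSm.Small G := by
  rcases h with h | h | h | h | h | h | h | h | h | h | h | h | h | h | h | h | h | h | h | h | h | h | h | h | h | h
  · exact H875.NilMathieu.small_M11 h hI
  · exact H875.NilMathieu.small_M12 h hI
  · exact H875.NilMathieu.small_M22 h hI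
  · exact H875.NilMathieu.small_M23 h hI
  · exact H875.NilMathieu.small_M24 h hI
  · exact H805.NilSp.small_J1 h hI
  · exact H805.NilSp.small_J2 h hI
  · exact H805.NilSp.small_J3 h hI
  · exact H805.NilSp.small_J4 h hI
  · exact H831.SmallCo.small_Co1 h hI
  · exact H831.SmallCo.small_Co2 h hI
  · exact H831.SmallCo.small_Co3 h hI
  · exact H805.NilSp.small_McL h hI
  · exact H805.NilSp.small_HS h hI
  · exact H805.NilSp.small_Suz h hI
  · exact H805.NilSp.small_He h hI
  · exact H805.NilSp.small_Ru h hI
  · exact H805.NilSp.small_ON h hI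
  · exact H513.NilpLy.small_Ly h hI
  · exact H199.NSmFi22.small_Fi22 h hI
  · exact H199.NSmFi23.small_Fi23 h hI
  · exact H199.NSmFi24.small_Fi24p h hI
  · exact H513.NilpHN.small_HN h hI
  · exact H513.NilpTh.small_Th h hI
  · exact H199.NSmB.small_B h hI
  · exact H199.NSmB.small_M h hI

theorem small_known {G : Type u} [Group G] [Finite G] [IsSimpleGroup G] (hG : ¬ IsMulCommutative G)
    (h : Cfsg.IsKnownSimple' G)
    (hI : ∀ (H : Type u) [Group H] [Finite H], IsSimpleGroup H → ¬ IsMulCommutative H → Nat.card H < Nat.card G →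
      NSm.Small H) : NSm.Small G := by
  rcases h with h | h | h | h | h | h | h | h | h | h
  · have : Fact (Nat.card G).Prime := ⟨h⟩
    have := isCyclic_of_prime_card (α := G) rfl
    exact absurd ⟨⟨fun a b => (IsCyclic.commGroup (α := G)).mul_comm a b⟩⟩ hG
  · obtain ⟨n, hn, ⟨e⟩⟩ := h
    exact (AltSmall.small_alt hn).congr e.symm
  · exact LieSmall.small_PSL hG h
  · exact LieSmall.small_PSp hG h
  · exact LieSmall.small_PSU hG h
  · exact LieSmall.small_POmegaOdd hG h
  · exact LieSmall.small_POmegaPlus hG h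
  · exact LieSmall.small_POmegaMinus hG h
  · exact small_exceptional hG h
  · exact small_sporadic h hI

/-- all simple groups of order at most `n`, from the classification -/
theorem small_all (hcls : ∀ (G : Type u) [Group G] [Finite G], IsSimpleGroup G → Cfsg.IsKnownSimple' G) (n : ℕ) :
    ∀ (G : Type u) [Group G] [Finite G], IsSimpleGroup G → ¬ IsMulCommutative G → Nat.card G ≤ n → NSm.Small G := by
  induction n with
  | zero =>
    intro G _ _ _ _ hn
    have h0 := Nat.card_pos (α := G)
    omega
  | succ n ih =>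
    intro G _ _ hs hG hn
    exact small_known hG (hcls G hs) fun H _ _ hH hHc hlt => ih H hH hHc (by omega)

end Cfsg.Agent.H972.Final
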