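import Mathlib
import Cfsg.Agent.H972.CharP
import Cfsg.Agent.H400.LieLocal
import Cfsg.Agent.H979.LieSplit
import Cfsg.Agent.H682.OppSyl
import Cfsg.Agent.SignalizersComponents.BalEndSz

/-!
# Nilpotent subgroups of order divisible by `p` of the groups of Lie type in characteristic `p` (helper972)
-/

set_option autoImplicit false

namespace Cfsg.Agent.H972.LieAt

open Subgroup

/-- `p`-subgroups are small if there are two Sylow `p`-subgroups with trivial intersection -/
theorem pgroup_lt {G : Type*} [Group G] [Finite G] {p : ℕ} [hp : Fact p.Prime]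
    (hopp : ∃ Q R : Sylow p G, (Q : Subgroup G) ⊓ R = ⊥) (hnp : ¬ IsPGroup p G) {N : Subgroup G} (hN : IsPGroup p ↥N) :
    Nat.card ↥N ^ 2 < Nat.card G := by
  obtain ⟨S, T, hR'⟩ := hopp
  have hTcard : Nat.card ↥(T : Subgroup G) = Nat.card ↥(S : Subgroup G) := by
    rw [T.card_eq_multiplicity, S.card_eq_multiplicity]
  have hSS : Nat.card ↥(S : Subgroup G) * Nat.card ↥(T : Subgroup G) ≤ Nat.card G := by
    rw [← Nat.card_prod]
    refine Nat.card_le_card_of_injective (fun x : ↥(S : Subgroup G) × ↥(T : Subgroup G) => (x.1 : G) * (x.2 : G)) ?_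
    rintro ⟨a, b⟩ ⟨c, d⟩ h
    have h1 : (a : G) * b = c * d := h
    have h2 : (c : G)⁻¹ * a = d * (b : G)⁻¹ := by
      calc (c : G)⁻¹ * a = (c : G)⁻¹ * (a * b) * (b : G)⁻¹ := by group
        _ = (c : G)⁻¹ * (c * d) * (b : G)⁻¹ := by rw [h1]
        _ = _ := by group
    have h3 : (c : G)⁻¹ * a ∈ (S : Subgroup G) ⊓ (T : Subgroup G) := by
      refine ⟨(S : Subgroup G).mul_mem ((S : Subgroup G).inv_mem c.2) a.2, ?_⟩
      rw [h2]
      exact (T : Subgroup G).mul_mem d.2 ((T : Subgroup G).inv_mem b.2)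
    rw [hR', mem_bot] at h3
    rw [h3] at h2
    exact Prod.ext (Subtype.ext (inv_mul_eq_one.1 h3).symm) (Subtype.ext (mul_inv_eq_one.1 h2.symm).symm)
  obtain ⟨k, hk⟩ := IsPGroup.iff_card.1 hN
  have h1 : Nat.card ↥N ≤ Nat.card ↥(S : Subgroup G) := by
    obtain ⟨R, hR⟩ := hN.exists_le_sylow
    refine (Subgroup.card_le_of_le hR).trans_eq ?_
    rw [R.card_eq_multiplicity, S.card_eq_multiplicity]
  refine lt_of_le_of_ne ?_ ?_
  · calc Nat.card ↥N ^ 2 ≤ Nat.card ↥(S : Subgroup G) ^ 2 := Nat.pow_le_pow_left h1 2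
      _ ≤ Nat.card G := by rw [sq]; rw [hTcard] at hSS; exact hSS
  · intro h
    apply hnp
    rw [IsPGroup.iff_card]
    exact ⟨k * 2, by rw [← h, hk, pow_mul]⟩

/-- a simple group of Lie type is not a `p`-group -/
theorem not_pGroup {G : Type*} [Group G] [Finite G] [IsSimpleGroup G] (hG : ¬ IsMulCommutative G) {p : ℕ} [hp : Fact p.Prime] :
    ¬ IsPGroup p G := by
  intro h
  have h1 : Nontrivial ↥(center G) := h.center_nontrivial
  rcases (inferInstance : (center G).Normal).eq_bot_or_eq_top with h2 | h2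
  · rw [h2] at h1
    exact (not_nontrivial ↥(⊥ : Subgroup G)) h1
  · apply hG
    refine ⟨⟨fun a b => ?_⟩⟩
    have : b ∈ center G := by rw [h2]; trivial
    exact mem_center_iff.1 this a

theorem smallAt_of_lie {p : ℕ} [hp : Fact p.Prime] {G : Type*} [Group G] [Finite G] [IsSimpleGroup G]
    (hG : ¬ IsMulCommutative G) (h : Cfsg.IsLieTypeChar p G) : NSm.SmallAt p G := by
  have hopp := (H682.OppSyl.main (H979.LieSplit.hasSplit_of_isLieTypeChar hp.out h)).1
  have hnp := not_pGroup (p := p) hG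
  by_cases hsz : p = 2 ∧ Lie.IsoSuzuki G
  · obtain ⟨rfl, hs⟩ := hsz
    refine NSm.smallAt_of_cent Nat.prime_two fun x hx => ⟨_, NSm.nle_card, ?_⟩
    exact pgroup_lt hopp hnp (SignalizersComponents.BalEndSz.isPGroup_centralizer_suzuki hs hx)
  · exact CharP.smallAt_of_local (H400.LieLocal.local_char_of_lie h hsz) hopp hnp

end Cfsg.Agent.H972.LieAt
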