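import Cfsg.Agent.H972.RO
import Cfsg.Agent.H729.PairM11
import Cfsg.Agent.H729.PairMathieu
import Cfsg.Agent.H729.PairJ1
import Cfsg.Agent.H729.PairTable
import Cfsg.Agent.H729.PairFour
import Cfsg.Agent.H729.PairHS
import Cfsg.Agent.H729.PairHe
import Cfsg.Agent.H729.PairON
import Cfsg.Agent.H463.Sp.Fi24
import Cfsg.Agent.H463.Sp.Fi23
import Cfsg.Agent.H463.Sp.J4
import Cfsg.Agent.H729.PairCoN

/-!
# `RealOdd` for seventeen sporadic groups (helper972)

The data are those of helper729 and helper463 for `PairN` (`H729/Pair*.lean`, `H463/Sp/*.lean`).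
-/

set_option autoImplicit false

namespace Cfsg.Agent.H972.ROSpor

open Cfsg Subgroup Cfsg.Agent.H101.RO Cfsg.Agent.H972.RO Cfsg.Agent.H729.PairBase Cfsg.Agent.H463.Pair

universe u

section Mathieu

open Cfsg.Agent.SporadicA.GolayBase Cfsg.Agent.SporadicA.GolayPerm Cfsg.Agent.H729.PairMathieu
open Cfsg.Agent.SporadicStructure.M24El Cfsg.Agent.H729.Trans Cfsg.Agent.H729.MData Cfsg.Agent.H729.Count
open Cfsg.Agent.H729.M24Deg Cfsg.Agent.H729.M22Deg

theorem at_M11 {K : Type*} [Group K] (h : Spor.IsoM11 K) : RealAt K 5 := by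
  have hG := Cit.Eleven.isM11 h
  have : Finite K := Nat.finite_of_card_ne_zero (by rw [hG.2]; norm_num)
  have := hG.1
  exact RO.of_card_fermat (r := 5) (k := 2) (by norm_num) (by norm_num) (by norm_num)
    (by rw [hG.2]; norm_num) (by rw [hG.2]; norm_num) (by rw [hG.2]; norm_num) (H729.PairM11.noTwo h)

theorem at_M22 {K : Type*} [Group K] (h : Spor.IsoM22 K) : RealAt K 5 := by
  obtain ⟨e⟩ := h
  have : IsSimpleGroup Spor.M22 := Cfsg.Agent.SporadicA.MathieuRecog.simple_M22
  exact RealAt.congr e.symm (RO.of_card_fermat (r := 5) (k := 2) (by norm_num) (by norm_num) (by norm_num)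
    (by rw [card_M22]; norm_num) (by rw [card_M22]; norm_num) (by rw [card_M22]; norm_num) noTwo22)

theorem at_M23 {K : Type*} [Group K] (h : Spor.IsoM23 K) : RealAt K 5 := by
  obtain ⟨e⟩ := h
  have : IsSimpleGroup Spor.M23 := simple_M23
  have hc := Cfsg.Agent.SporadicA.MathieuRecog.card_M23
  exact RealAt.congr e.symm (RO.of_card_fermat (r := 5) (k := 2) (by norm_num) (by norm_num) (by norm_num)
    (by rw [hc]; norm_num) (by rw [hc]; norm_num) (by rw [hc]; norm_num) noTwo23)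

theorem at_M24_model : RealAt M24 11 := by
  have : IsSimpleGroup M24 := Cfsg.Agent.S0365.result
  refine RO.of_card_cent (r := 11) (m := 22256640) (by norm_num) (by norm_num) (by rw [card_M24]) (by norm_num)
    (by norm_num) noTwo24 (fun c => c = 1) ?_ ?_
  · intro x hx c hc
    rw [card_cent_eleven hx] at hc
    omega
  · rintro c rfl e he he1 h2
    have : e ∈ Nat.divisors 10 := Nat.mem_divisors.2 ⟨he, by norm_num⟩
    have h3 : e ∈ ({1, 2, 5, 10} : Finset ℕ) := by
      have e1 : Nat.divisors 10 = {1, 2, 5, 10} := by decide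
      rwa [e1] at this
    simp only [Finset.mem_insert, Finset.mem_singleton] at h3
    omega

theorem at_M24 {K : Type*} [Group K] (h : Spor.IsoM24 K) : RealAt K 11 := by
  obtain ⟨e⟩ := h
  exact at_M24_model.congr e.symm

end Mathieu

section JOne

open Cfsg.Spor Cfsg.Agent.SporadicB.J1.Mat Cfsg.Agent.SporadicB.J1.Data Cfsg.Agent.SporadicB.J1.Main

theorem at_J1 {K : Type*} [Group K] (h : IsoJ1 K) : RealAt K 19 := by
  obtain ⟨e⟩ := h
  refine RealAt.congr e.symm ?_
  have hfin := (UGT.EndJ1.Data.exists_dat).some.fin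
  obtain ⟨s, t, hs, ht, hst⟩ := H729.PairJ1.exists_nineteen
  exact RO.of_two (r := 19) (by norm_num) (by norm_num) hs ht hst (H729.PairJ1.noTwo (by norm_num))

end JOne

theorem at_J2 {K : Type*} [Group K] (h : Spor.IsoJ2 K) : RealAt K 7 := by
  have hh : RealAt Cfsg.Agent.SporadicA.J2Hundred.G 7 :=
    RO.of_gen (r := 7) (k := 3) (m := 3) (by norm_num) (by norm_num)
      (x := ⟨OddHalf.Table.OutJ2.x, OddHalf.Table.OutJ2.x_mem⟩)
      (f := ⟨OddHalf.Table.OutJ2.f, OddHalf.Table.OutJ2.f_mem⟩)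
      (by rw [Subgroup.orderOf_mk]; exact OddHalf.Table.OutJ2.order_x)
      (Subtype.ext OddHalf.Table.OutJ2.f6) (fun h => OddHalf.Table.OutJ2.f3_ne (congrArg Subtype.val h))
      (Subtype.ext OddHalf.Table.OutJ2.fx)
      (by
        rintro ⟨c, hc⟩ h
        obtain ⟨i, hi⟩ := OddHalf.Table.OutJ2.cent_x hc (congrArg Subtype.val h)
        exact ⟨i, Subtype.ext hi⟩)
  obtain ⟨e⟩ := h
  obtain ⟨f⟩ := Cfsg.Agent.J2.HundredGens.J2_iso Cfsg.Agent.S1619.result.2.2.2
  exact hh.congr (e.trans f).symm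

open OddHalf.Table.OutRu in
theorem at_Ru {K : Type*} [Group K] (h : Spor.IsoRu K) : RealAt K 29 := by
  have hh : RealAt Cfsg.Agent.SporadicB.RuOrder.H 29 :=
    RO.of_gen (r := 29) (k := 4) (m := 7) (by norm_num) (by norm_num) orderOf_x f_pow f_pow7 conj_fx cent_x'
  obtain ⟨e⟩ := h
  exact hh.congr (e.trans RuLat.Main.equiv).symm

open OddHalf.Table.OutSuz OddHalf.Table.SuzRep in
theorem at_Suz {K : Type*} [Group K] (h : Spor.IsoSuz K) : RealAt K 11 := by
  have hh : RealAt Spor.Suz 11 :=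
    RO.of_gen (r := 11) (k := 2) (m := 5) (by norm_num) (by norm_num) order_x f10 f5_ne fx cent_x
  obtain ⟨e⟩ := h
  exact hh.congr e.symm

theorem at_J3 {K : Type*} [Group K] (h : Spor.IsoJ3 K) : RealAt K 17 := by
  obtain ⟨hs, hcK, -⟩ := H898.J3Cent.base h
  have hfin : Finite K := Nat.finite_of_card_ne_zero (by rw [hcK]; norm_num)
  have : Fact (Nat.Prime 17) := ⟨by norm_num⟩
  obtain ⟨x, hx⟩ := exists_prime_orderOf_dvd_card' (G := K) 17 (by rw [hcK]; norm_num)
  obtain ⟨h1, h2⟩ := H898.J3Cent.seventeen h hx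
  exact RO.of_odd_even (r := 17) (by norm_num) (by norm_num) hx (by rw [h1]; norm_num) (by rw [h2]; norm_num)

theorem at_Fi22 {K : Type*} [Group K] (h : Spor.IsoFi22 K) : RealAt K 13 := by
  obtain ⟨e⟩ := h
  have I := H836.inv_of_iso e
  have hfin : Finite K := I.ctx.finite
  have : Fact (Nat.Prime 13) := ⟨by norm_num⟩
  obtain ⟨x, hx⟩ := exists_prime_orderOf_dvd_card' (G := K) 13 (by rw [I.ctx.card]; norm_num)
  obtain ⟨h1, h2⟩ := (H836.Main.thirteen_concl e).2 (zpowers x) (by rw [Nat.card_zpowers, hx])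
  rw [centralizer_zpowers_eq] at h2
  exact RO.of_odd_even (r := 13) (by norm_num) (by norm_num) hx
    (by rw [h2, Nat.card_zpowers, hx]; norm_num) (by rw [h1]; norm_num)

section HS

open Cfsg.Agent.HN Cfsg.Agent.HN.Pres Cfsg.Agent.HN.HS100 Cfsg.Agent.HN.P1408 Cfsg.Agent.HN.H0Basic
open Cfsg.Agent.KFacts.HS Cfsg.Agent.KFacts.HS.DFour
open Cfsg.Agent.KFacts.HS.TwoB (g0 g0w g0_mem_K)
open Cfsg.Agent.H729.PairHS

theorem at_HS_model {L : Type*} [Group L] (D : KFacts.HS.Mod L) : RealAt L 7 := by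
  have hfin := D.finite
  refine RO.of_two (r := 7) (by norm_num) (by norm_num) (s := D.π ⟨hw g0w, g0w_mem⟩) (t := D.π ⟨hw tw, tw_mem⟩)
    ?_ ?_ ?_ (noTwo D)
  · exact wB_sq D
  · rw [← map_mul, ← map_one D.π, pi_eq]
    show φ (hw tw * hw tw) = φ 1
    rw [← hw_append, ← hw_nil]
    exact eqt_spec (by decide +kernel)
  · have : Fact (Nat.Prime 7) := ⟨by norm_num⟩
    have hp : D.π ⟨hw g0w, g0w_mem⟩ * D.π ⟨hw tw, tw_mem⟩ = D.π (⟨hw g0w, g0w_mem⟩ * ⟨hw tw, tw_mem⟩) :=
      (map_mul _ _ _).symm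
    refine orderOf_eq_prime ?_ ?_
    · rw [hp, ← map_pow, ← map_one D.π, pi_eq]
      show φ ((hw g0w * hw tw) ^ 7) = φ 1
      rw [← hw_append, ← hw_nil]
      have e : hw (g0w ++ tw) ^ 7 = hw (pw ++ (pw ++ (pw ++ (pw ++ (pw ++ (pw ++ pw)))))) := by
        simp only [hw_append, pow_succ, pow_zero, one_mul, pw, mul_assoc]
      rw [e]
      exact eqt_spec (by decide +kernel)
    · intro h
      rw [hp, ← map_one D.π, pi_eq] at h
      have h1 : φ (hw (g0w ++ tw)) = φ (hw []) := by rw [hw_append, hw_nil]; exact h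
      rw [φ_eq_iff, ← hw_τ, ← hw_append] at h1
      rcases h1 with h1 | h1
      · exact absurd (eqw_of_hw_eq (by decide) (by decide) h1) (by decide +kernel)
      · exact absurd (eqw_of_hw_eq (by decide) (by decide) h1) (by decide +kernel)

theorem at_HS {K : Type*} [Group K] (h : Spor.IsoHS K) : RealAt K 7 := by
  obtain ⟨D⟩ := exists_mod h
  exact at_HS_model D

end HS

theorem at_He {K : Type*} [Group K] (h : Spor.IsoHe K) : RealAt K 17 := by
  obtain ⟨e⟩ := h
  have : IsSimpleGroup Spor.He := KFacts.He.Cent.simpleHe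
  have hfin := H729.PairHe.finite_he
  refine RealAt.congr e.symm ?_
  refine RO.of_card_fermat (r := 17) (k := 4) (by norm_num) (by norm_num) (by norm_num) ?_ ?_ ?_
    (H729.PairHe.noTwo (by norm_num) (by norm_num) (by norm_num) (by norm_num)) <;> rw [KFacts.He.Classes.card_he] <;>
      norm_num

section ON

open Cfsg.Spor
open Cfsg.Agent.SporadicB.ON45Word (on)
open Cfsg.Agent.SporadicB.ON45Sub

theorem at_ON_model : RealAt ON 19 := by
  have hfin := KFacts.ON.OneClass.finite_ON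
  obtain ⟨s, t, hs, ht, hst⟩ := H729.PairJ1.exists_nineteen
  obtain ⟨e⟩ := SporadicB.AtlasPres.J1Rec.nonempty_mulEquiv (relJ1 KFacts.ON.OneClass.hs) xA_ne
  have key : ∀ u v : J1, (((e.symm u : Subgroup.closure {xA, xB}) : ON) * ((e.symm v : Subgroup.closure {xA, xB}) : ON))
      = ((e.symm (u * v) : Subgroup.closure {xA, xB}) : ON) := by
    intro u v
    rw [map_mul]
    rfl
  refine RO.of_two (r := 19) (by norm_num) (by norm_num) (s := (e.symm s : ON)) (t := (e.symm t : ON)) ?_ ?_ ?_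
    (H729.PairON.noTwo (by norm_num))
  · rw [key, hs, map_one]; rfl
  · rw [key, ht, map_one]; rfl
  · rw [key, ← hst, Subgroup.orderOf_coe]
    exact e.symm.orderOf_eq _

theorem at_ON {K : Type*} [Group K] (h : IsoON K) : RealAt K 19 := by
  obtain ⟨e⟩ := h
  exact RealAt.congr e.symm at_ON_model

end ON

theorem at_J4_model [Finite Spor.J4] : RealAt Spor.J4 29 := by
  refine RO.of_sub (r := 29) (by norm_num) (by norm_num) ?_ ?_ ?_
  · obtain ⟨P, hP⟩ := H859.BigNum.exists_sub 29 (by norm_num)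
    exact hP ▸ Subgroup.card_subgroup_dvd_card P
  · intro P hP
    rw [(H859.BigNum.data29' hP).1]; norm_num
  · intro P hP
    rw [(H859.BigNum.data29' hP).2]; norm_num

theorem at_J4 {K : Type*} [Group K] [Finite K] (h : Spor.IsoJ4 K) : RealAt K 29 := by
  obtain ⟨e⟩ := h
  have : Finite Spor.J4 := Finite.of_equiv K e.toEquiv
  exact at_J4_model.congr e.symm

theorem at_Fi23 {K : Type*} [Group K] [Finite K] (h : Spor.IsoFi23 K) : RealAt K 17 := by
  obtain ⟨e⟩ := h
  have key := H839.Fi23.SC.map_all e.symm H839.Fi23.seventeen_main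
  refine RO.of_sub (r := 17) (by norm_num) (by norm_num) ?_ ?_ ?_
  · rw [Nat.card_congr e.toEquiv, ← H839.Fi23.card_y17]
    exact Subgroup.card_subgroup_dvd_card _
  · intro P hP
    rw [(key P hP).2, hP]; norm_num
  · intro P hP
    rw [(key P hP).1]; norm_num

theorem at_Fi24p_model : RealAt Spor.Fi24' 29 := by
  have : Finite Spor.Fi24 := Cfsg.Agent.R08.FiTwentyFour.finite_Fi24
  refine RO.of_index_two Cfsg.Agent.R08.FiTwentyFour.index_commutator (r := 29) (by norm_num) (by norm_num)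
    H843.D29.order ?_ ?_
  · rw [← centralizer_zpowers_eq, H843.D29.main.2]; norm_num
  · rw [H843.D29.main.1]; norm_num

theorem at_Fi24p {K : Type*} [Group K] (h : Spor.IsoFi24' K) : RealAt K 29 := by
  obtain ⟨e⟩ := h
  exact at_Fi24p_model.congr e.symm

section CoTwo

open Cfsg.Agent.SporadicA.GolayBase Cfsg.Agent.SporadicA.GolayPerm
open Cfsg.Agent.SporadicA.Co0Mono hiding mk
open Cfsg.Agent.SporadicA.Co1Simple Cfsg.Agent.Co2Type.Mono
open Cfsg.Agent.SporadicStructure.M24El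
open Cfsg.Agent.H729.MData Cfsg.Agent.H729.Count Cfsg.Agent.H729.PairEleven
open Cfsg.Agent.H729.PairCoN
open Cfsg.Agent.H729

theorem at_Co2_model : RealAt Spor.Co2 11 := by
  have : Finite Spor.Co2 := Finite.of_injective _ toCo0_injective
  have hN : NoTwo Spor.Co2 11 := by
    refine NoTwo.of_one (by norm_num) (by rw [Cfsg.Agent.Schreier.CoTwoStab.card]; norm_num) orderOf_x2 ?_
    intro t ht hc
    have h1 : toCo0 t = 1 := by
      apply eq_one_of_fix
      · rw [← toCo0_xx, ← map_mul, ← map_mul, hc.eq]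
      · rw [← map_mul]
        have h2 := pow_orderOf_eq_one t
        rw [ht, pow_two] at h2
        rw [h2, map_one]
      · exact toCo0_smul t
    rw [← map_one toCo0] at h1
    rw [toCo0_injective h1, orderOf_one] at ht
    norm_num at ht
  have hy2 : mo2 0 R * mo2 0 R = 1 := by
    rw [PairCo2.mul_P okPR okPR, RR, mo2_one]
  refine RO.of_inv (x := mo2 0 c11) (y := mo2 0 R) (r := 11) (by norm_num) (by norm_num) orderOf_x2 ?_ ?_ hN
  · refine orderOf_eq_prime (hp := ⟨Nat.prime_two⟩) (by rw [pow_two, hy2]) fun h => ?_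
    have h1 : toCo0 (mo2 0 R) = 1 := by rw [h, map_one]
    rw [toCo0_mo2 inE_zero okPR] at h1
    unfold mo at h1
    have h2 := perm_eq_one h1
    have h3 := idx_el_smul okR (pt 0)
    rw [h2, one_smul, idx_pt (by norm_num)] at h3
    have h4 := R_ne
    rw [← h3] at h4
    exact absurd h4 (by decide)
  · have h1 : mo2 0 c11 * (mo2 0 R * mo2 0 c11) = mo2 0 R := by
      rw [PairCo2.mul_P okPR okPc, PairCo2.mul_P okPc (okP_pcomp okPR okPc), cRc]
    rw [eq_inv_iff_mul_eq_one]
    have h2 : mo2 0 R * mo2 0 c11 = (mo2 0 c11)⁻¹ * mo2 0 R := by rw [eq_inv_mul_iff_mul_eq]; exact h1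
    rw [h2]
    group

theorem at_Co2 {K : Type*} [Group K] (h : Spor.IsoCo2 K) : RealAt K 11 := by
  obtain ⟨e⟩ := h
  exact RealAt.congr e.symm at_Co2_model

end CoTwo

end Cfsg.Agent.H972.ROSpor
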